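import Cfsg.Agent.Mrg.Omega.NOThreeL.NF.Nat
import Cfsg.Agent.Mrg.Omega.NOThreeL.NF.Line

section


/-!
# THEOREM FFB (#19580): a second interface to the FF theorem

`W = zl S P`, `P ∈ P*(S)`, `C_Z(P) = 1`, minimal offenders `NF.MinOffM W S A`.

* `RP2 S P` : every offender `T ≤ S` is generated by minimal offenders modulo `C(W)`; minimal offenders with the same
  commutator are equal modulo `C(W)`; for a minimal offender `B`, `b ∈ B - C(W)` and `r ∈ [W, B]` there is `y ∈ W`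
  with `[b, y] = r` which is centralised by all minimal offenders with another commutator;
* `exists_minOff` : an offender `T ≤ S` contains a minimal offender;
* `rp2_of_natKM` : `RP2` for natural modules.
-/

set_option autoImplicit false

namespace Cfsg.Agent.Omega.NOThreeL.FFB

open Subgroup Cfsg Cfsg.Agent.ZN Cfsg.Agent.ZN.ChoiceBase Cfsg.Agent.Omega.MinPar
open Cfsg.Agent.Omega.FFThm (ElemM OffM NoOverM ConclM NatKM ActsSL relIndex_le_iff)
open Cfsg.Agent.Omega.NatPair (ap ap_mul ap_one ap_inv_ap ap_zero' ap_one' ext2 exists_ap)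
open Cfsg.Agent.Omega.NO3b.EZero (cent_symm)
open Cfsg.Agent.Omega.NOThreeL.NF (MinOffM)
open Cfsg.Agent.Omega.NOThreeL.NF.NatR
open Cfsg.Agent.Lib.SL2Mat
open scoped commutatorElement

universe u

/-- The second interface to the FF theorem. -/
structure RP2 {G : Type u} [Group G] (S P : Subgroup G) : Prop where
  gen : ∀ T : Subgroup G, T ≤ S → OffM (zl S P) T →
    T ≤ sSup {B : Subgroup G | B ≤ T ∧ MinOffM (zl S P) S B} ⊔ centralizer (zl S P : Set G)
  eq : ∀ A B : Subgroup G, MinOffM (zl S P) S A → MinOffM (zl S P) S B → ⁅zl S P, A⁆ = ⁅zl S P, B⁆ →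
    ∀ b ∈ B, ∃ a ∈ A, a⁻¹ * b ∈ centralizer (zl S P : Set G)
  nn : ∀ B : Subgroup G, MinOffM (zl S P) S B → ∀ b ∈ B, b ∉ centralizer (zl S P : Set G) →
    ∀ r ∈ ⁅zl S P, B⁆, ∃ y ∈ zl S P,
      (∀ B' : Subgroup G, MinOffM (zl S P) S B' → ⁅zl S P, B'⁆ ≠ ⁅zl S P, B⁆ → y ∈ centralizer (B' : Set G)) ∧
        b * y * b⁻¹ * y⁻¹ = r

variable {G : Type u} [Group G]

/-- An offender contains a minimal offender. -/
theorem exists_minOff [Finite G] {W S T : Subgroup G} (hT : T ≤ S) (h : OffM W T) : ∃ B ≤ T, MinOffM W S B := by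
  obtain ⟨B, ⟨hBT, hB⟩, hmin⟩ := Set.exists_min_image {B : Subgroup G | B ≤ T ∧ OffM W B}
    (fun B => (centralizer (W : Set G)).relIndex B) (Set.toFinite _) ⟨T, le_rfl, h⟩
  exact ⟨B, hBT, hBT.trans hT, hB, fun B' hB' h' => hmin B' ⟨hB'.trans hBT, h'⟩⟩

section nat

variable {F : Type} [Field F] {S P W : Subgroup G} {k : ℕ}
variable (hPW : P ≤ normalizer (W : Set G)) (hSP : S ≤ P)
include hPW hSP

/-- the minimal offenders in `T` -/
theorem nat_gen [Finite G] [CharP F 2] (M : NatKM F S P W ⊥ k) {T : Subgroup G} (hT : T ≤ S)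
    (hoff : OffM W T) :
    T ≤ sSup {B : Subgroup G | B ≤ T ∧ MinOffM W S B} ⊔ centralizer (W : Set G) := by
  classical
  obtain ⟨I, h1, h2⟩ := M.offM T hT hoff
  set K := sSup {B : Subgroup G | B ≤ T ∧ MinOffM W S B} ⊔ centralizer (W : Set G) with hK
  -- root groups of `T`
  have hroot : ∀ i ∈ I, ∀ c : F, ∀ a ∈ T, Ac M a (Pi.mulSingle i (up c)) → a ∈ K := by
    intro i hi c a ha hac
    let B : Subgroup G :=
      { carrier := {a | a ∈ T ∧ ∃ c : F, Ac M a (Pi.mulSingle i (up c))}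
        mul_mem' := by
          rintro a b ⟨ha, c, hc⟩ ⟨hb, d, hd⟩
          refine ⟨mul_mem ha hb, c + d, ?_⟩
          rw [← mulSingle_mul]
          exact Ac.mul hPW (hSP (hT hb)) hc hd
        one_mem' := ⟨one_mem _, 0, by rw [mulSingle_zero]; exact ac_one (one_mem _)⟩
        inv_mem' := by
          rintro a ⟨ha, c, hc⟩
          refine ⟨inv_mem ha, -c, ?_⟩
          rw [← mulSingle_inv]
          exact hc.inv hPW (hSP (hT ha)) }
    have hBT : B ≤ T := fun a ha => ha.1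
    have key : ∀ c : F, (fun j => up ((Pi.single i c : Fin k → F) j) :
        Fin k → Matrix.SpecialLinearGroup (Fin 2) F) = Pi.mulSingle i (up c) := by
      intro c
      funext j
      by_cases hj : j = i
      · subst hj; rw [Pi.single_eq_same, Pi.mulSingle_eq_same]
      · rw [Pi.single_eq_of_ne hj, Pi.mulSingle_eq_of_ne hj, up_zero]
    have hB : Rt M i B := by
      refine ⟨hBT.trans hT, fun a ha => ha.2, fun c => ?_⟩
      have hs : ∀ j, j ∉ I → (Pi.single i c : Fin k → F) j = 0 := by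
        intro j hj
        have h3 : j ≠ i := fun h3 => hj (by rw [h3]; exact hi)
        rw [Pi.single_apply, if_neg h3]
      obtain ⟨a, ha, hac⟩ := h2 (Pi.single i c) hs
      have h3 : Ac M a (Pi.mulSingle i (up c)) := by rw [← key c]; exact hac.1
      exact ⟨a, ⟨ha, c, h3⟩, h3⟩
    obtain ⟨B', hB'B, hB'⟩ := exists_minOff (S := S) hB.le (hB.offM hPW hSP)
    obtain ⟨j, hj⟩ := Rt.of (M := M) hPW hSP hB'
    -- `j = i`
    have hji : j = i := by
      by_contra hne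
      obtain ⟨b, hb, hbc⟩ := hj.ex 1
      obtain ⟨d, hd⟩ := (hB'B hb).2
      obtain ⟨v, hv, hvj, -⟩ := exists_pt (M := M) j ![0, 1]
      have e1 := ac_at hbc hv
      have e2 := ac_ne hd hv hne
      rw [e1, hvj] at e2
      have e3 := congrFun e2 0
      simp at e3
    subst hji
    obtain ⟨b, hb, hbc⟩ := hj.ex c
    have e : a = b * (b⁻¹ * a) := by group
    rw [e]
    have haP := hSP (hT ha)
    have hbP := hSP (hj.le hb)
    have hBK : B' ≤ K := (le_sSup (a := B') (show B' ∈ {B : Subgroup G | B ≤ T ∧ MinOffM W S B} from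
      ⟨hB'B.trans hBT, hB'⟩)).trans le_sup_left
    refine mul_mem (hBK hb) ((le_sup_right : _ ≤ K) ?_)
    refine cent_of_ac (M := M) hPW (mul_mem (inv_mem hbP) haP) ?_
    have h3 := Ac.mul hPW haP (hbc.inv hPW hbP) hac
    rwa [inv_mul_cancel] at h3
  -- induction on the support
  have main : ∀ s : Finset (Fin k), ∀ t ∈ T, ∀ b : Fin k → F, (∀ i, i ∉ I → b i = 0) → (∀ i, i ∉ s → b i = 0) →
      Ac M t (fun i => up (b i)) → t ∈ K := by
    intro s
    induction s using Finset.induction_on with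
    | empty =>
      intro t ht b _ hb hac
      refine (le_sup_right : _ ≤ K) (cent_of_ac (M := M) hPW (hSP (hT ht)) ?_)
      have : (fun i => up (b i) : Fin k → Matrix.SpecialLinearGroup (Fin 2) F) = 1 := by
        funext i
        rw [hb i (Finset.notMem_empty i), up_zero]; rfl
      rwa [this] at hac
    | @insert j s hjs ih =>
      intro t ht b hbI hb hac
      by_cases hbj : b j = 0
      · refine ih t ht b hbI (fun i hi => ?_) hac
        by_cases hij : i = j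
        · rw [hij, hbj]
        · exact hb i (by rw [Finset.mem_insert]; tauto)
      have hjI : j ∈ I := by
        by_contra h0
        exact hbj (hbI j h0)
      obtain ⟨a, ha, haa⟩ := h2 (Pi.single j (b j)) (fun i hi => by
        have h3 : i ≠ j := fun h3 => hi (h3 ▸ hjI)
        rw [Pi.single_apply, if_neg h3])
      have haa' : Ac M a (fun i => up ((Pi.single j (b j) : Fin k → F) i)) := haa.1
      have haj : Ac M a (Pi.mulSingle j (up (b j))) := by
        have : (fun i => up ((Pi.single j (b j) : Fin k → F) i) :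
            Fin k → Matrix.SpecialLinearGroup (Fin 2) F) = Pi.mulSingle j (up (b j)) := by
          funext i
          by_cases hi : i = j
          · subst hi; rw [Pi.single_eq_same, Pi.mulSingle_eq_same]
          · rw [Pi.single_eq_of_ne hi, Pi.mulSingle_eq_of_ne hi, up_zero]
        rwa [this] at haa'
      have haK := hroot j hjI (b j) a ha haj
      have e : t = a * (a⁻¹ * t) := by group
      rw [e]
      refine mul_mem haK (ih (a⁻¹ * t) (mul_mem (inv_mem ha) ht) (fun i => if i = j then 0 else b i) (fun i hi => ?_)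
        (fun i hi => ?_) ?_)
      · split_ifs
        · rfl
        · exact hbI i hi
      · split_ifs with hij
        · rfl
        · exact hb i (by rw [Finset.mem_insert]; tauto)
      · have h3 := Ac.mul hPW (hSP (hT ht)) (haj.inv hPW (hSP (hT ha))) hac
        have h4 : (Pi.mulSingle j (up (b j)))⁻¹ * (fun i => up (b i) : Fin k → Matrix.SpecialLinearGroup (Fin 2) F) =
            fun i => up (if i = j then 0 else b i) := by
          funext i
          rw [Pi.mul_apply, Pi.inv_apply]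
          by_cases hi : i = j
          · subst hi
            rw [Pi.mulSingle_eq_same, if_pos rfl, inv_mul_cancel, up_zero]
          · rw [Pi.mulSingle_eq_of_ne hi, if_neg hi, inv_one, one_mul]
        rwa [h4] at h3
  intro t ht
  obtain ⟨b, hb, hac⟩ := h1 t ht
  exact main Finset.univ t ht b hb (fun i hi => absurd (Finset.mem_univ i) hi) hac.1

theorem nat_eq [Finite G] [CharP F 2] {A B : Subgroup G} (hA : MinOffM W S A) (hB : MinOffM W S B)
    (M : NatKM F S P W ⊥ k) (he : ⁅W, A⁆ = ⁅W, B⁆) {b : G} (hb : b ∈ B) :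
    ∃ a ∈ A, a⁻¹ * b ∈ centralizer (W : Set G) := by
  obtain ⟨i, hi⟩ := Rt.of (M := M) hPW hSP hA
  obtain ⟨j, hj⟩ := Rt.of (M := M) hPW hSP hB
  rw [hi.comm_eq hPW hSP, hj.comm_eq hPW hSP] at he
  have hij : i = j := ln_injective he
  subst hij
  obtain ⟨c, hc⟩ := hj.acts b hb
  obtain ⟨a, ha, hac⟩ := hi.ex c
  have haP := hSP (hi.le ha)
  have hbP := hSP (hj.le hb)
  refine ⟨a, ha, cent_of_ac (M := M) hPW (mul_mem (inv_mem haP) hbP) ?_⟩
  have h3 := Ac.mul hPW hbP (hac.inv hPW haP) hc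
  rwa [inv_mul_cancel] at h3

theorem nat_nn [Finite G] [CharP F 2] {B : Subgroup G} (hB : MinOffM W S B)
    (M : NatKM F S P W ⊥ k) {b : G} (hb : b ∈ B) (hbc : b ∉ centralizer (W : Set G)) {r : G} (hr : r ∈ ⁅W, B⁆) :
    ∃ y ∈ W, (∀ B' : Subgroup G, MinOffM W S B' → ⁅W, B'⁆ ≠ ⁅W, B⁆ → y ∈ centralizer (B' : Set G)) ∧
      b * y * b⁻¹ * y⁻¹ = r := by
  obtain ⟨i, hi⟩ := Rt.of (M := M) hPW hSP hB
  rw [hi.comm_eq hPW hSP] at hr
  obtain ⟨c, hc⟩ := hi.acts b hb
  have hbP := hSP (hi.le hb)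
  have hc0 : c ≠ 0 := by
    rintro rfl
    rw [mulSingle_zero] at hc
    exact hbc (cent_of_ac hPW hbP hc)
  obtain ⟨y, hy, hyi, hyj⟩ := exists_pt (M := M) i ![0, c⁻¹ * M.e r i 0]
  refine ⟨y, hy, fun B' hB' hne => ?_, ?_⟩
  · obtain ⟨j, hj⟩ := Rt.of (M := M) hPW hSP hB'
    have hji : j ≠ i := by
      rintro rfl
      exact hne (by rw [hi.comm_eq hPW hSP, hj.comm_eq hPW hSP])
    refine hj.fix hPW hSP hy ?_
    rw [hyj j hji]; rfl
  · have hby := cmem hPW hbP hy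
    refine e_inj (M := M) (mul_mem hby (inv_mem hy)) hr.1 ?_
    funext j
    rw [M.mul _ hby _ (inv_mem hy), Pi.add_apply, e_inv hy, Pi.neg_apply]
    by_cases hj : j = i
    · subst hj
      rw [ac_at hc hy, hyi]
      refine ext2 ?_ ?_
      · simp [mul_inv_cancel_left₀ hc0]
      · simp [hr.2.1]
    · rw [ac_ne hc hy hj, hyj j hj, hr.2.2 j hj]
      simp

end nat

/-- **`RP2` for natural modules.** -/
theorem rp2_of_natKM [Finite G] {S P : Subgroup G} (hSP : S ≤ P) (hD : FrameFF.cv S P = ⊥)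
    {F : Type} [Field F] [Finite F] [CharP F 2] {k : ℕ} (M : NatKM F S P (zl S P) (FrameFF.cv S P) k) :
    RP2 S P := by
  rw [hD] at M
  have hPW : P ≤ normalizer (zl S P : Set G) := Cfsg.Agent.MinSimple.VModule.le_normalizer_zl S P
  exact ⟨fun T hT h => nat_gen hPW hSP M hT h, fun A B hA hB he b hb => nat_eq hPW hSP hA hB M he hb,
    fun B hB b hb hbc r hr => nat_nn hPW hSP hB M hb hbc hr⟩

end Cfsg.Agent.Omega.NOThreeL.FFB

end

section


/-!
# THEOREM FFB (#19580): tools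

* `exact_step` : the counting step (1): three `≤` give three `=`;
* `exists_good` : if `W ≤ S` does not centralise `V_P`, then `P = ⟨S, W^h⟩` for some `h ∈ P`;
* `exists_conj_sup` : `P = ⟨S, S^p⟩` for some `p ∈ P`; `P = ⟨S, S^p⟩` for all `p ∈ P - M_P`;
* `eq_line` : an elementary abelian `N ≥ V_P`, `P ≤ N(N)`, `O₂(P) ≤ C(N)`, with
  `[N, A^p] ≤ V_P`, `|N : C_N(A)| ≤ |A : C_A(V_P)|` for a minimal offender `A` on `V_P` is `V_P`.
-/

set_option autoImplicit false

namespace Cfsg.Agent.Omega.NOThreeL.FFB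

open Subgroup Cfsg
open Cfsg.Agent.ZN
open Cfsg.Agent.ZN.ChoiceBase hiding mem_zc
open Cfsg.Agent.Omega.MinPar Cfsg.Agent.Omega.Frame Cfsg.Agent.Omega.FrameNOFF
open Cfsg.Agent.Omega.NO3b.EZero (NotFF cent_symm cj_cent cj_norm)
open Cfsg.Agent.Omega.FFThm (ElemM OffM NoOverM ConclM relIndex_le_iff)
open Cfsg.Agent.Omega.NOThreeL.Star (card_sup_mul rel_mul_card)
open Cfsg.Agent.Omega.NOThreeL.NF
open Cfsg.Agent.MinSimple.VModule (mem_zc zc_le zc_sq zc_comm le_centralizer_zc zc_le_zl zl_le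
  le_normalizer_zl normalizer_le_normalizer_zc le_normalizer_o2 o2_isPGroup o2_le)
open scoped commutatorElement

universe u

variable {G : Type u} [Group G] [Finite G]

/-- **The counting step.** -/
theorem exact_step {V₁ V₂ A : Subgroup G} (h11 : V₁ ≤ centralizer (V₁ : Set G))
    (h22 : V₂ ≤ centralizer (V₂ : Set G)) (h12 : V₁ ≤ centralizer (V₂ : Set G))
    (hD : (centralizer (A : Set G)).relIndex (V₁ ⊔ V₂) ≤
      (centralizer ((V₁ ⊔ V₂ : Subgroup G) : Set G)).relIndex A)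
    (h1 : (centralizer (V₁ : Set G)).relIndex A ≤ (centralizer (A : Set G)).relIndex V₁)
    (h2 : (centralizer (V₂ : Set G)).relIndex (A ⊓ centralizer (V₁ : Set G)) ≤
      (centralizer ((A ⊓ centralizer (V₁ : Set G) : Subgroup G) : Set G)).relIndex V₂) :
    (centralizer (V₁ : Set G)).relIndex A = (centralizer (A : Set G)).relIndex V₁ ∧
      (centralizer (V₂ : Set G)).relIndex (A ⊓ centralizer (V₁ : Set G)) =
        (centralizer ((A ⊓ centralizer (V₁ : Set G) : Subgroup G) : Set G)).relIndex V₂ ∧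
      (V₁ ⊔ V₂) ⊓ centralizer ((A ⊓ centralizer (V₁ : Set G) : Subgroup G) : Set G) =
        V₁ ⊔ ((V₁ ⊔ V₂) ⊓ centralizer (A : Set G)) := by
  set D := V₁ ⊔ V₂ with hDdef
  set T := A ⊓ centralizer (V₁ : Set G) with hT
  have hDD : D ≤ centralizer (D : Set G) := by
    refine sup_le (cent_symm (sup_le h11 (cent_symm h12))) (cent_symm (sup_le h12 h22))
  have hV1T : V₁ ≤ centralizer (T : Set G) := cent_symm inf_le_right
  have e1 : A ⊓ centralizer (D : Set G) = T ⊓ centralizer (V₂ : Set G) := by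
    have l1 : V₁ ≤ D := le_sup_left
    have l2 : V₂ ≤ D := le_sup_right
    refine le_antisymm (le_inf (inf_le_inf_left _ (centralizer_le l1))
      (inf_le_right.trans (centralizer_le l2))) (le_inf (inf_le_left.trans inf_le_left) ?_)
    exact cent_symm (sup_le (cent_symm (inf_le_left.trans inf_le_right)) (cent_symm inf_le_right))
  have hD' := relIndex_le_iff.2 hD
  have h1' := relIndex_le_iff.2 h1
  have h2' := relIndex_le_iff.2 h2
  rw [e1] at hD'
  -- `D = V₂ (D ⊓ C(T))`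
  have e2 : V₂ ⊔ (D ⊓ centralizer (T : Set G)) = D := by
    refine le_antisymm (sup_le le_sup_right inf_le_left) (sup_le ?_ le_sup_left)
    exact (le_inf le_sup_left hV1T).trans le_sup_right
  have s1 := card_sup_mul hDD (le_sup_right : V₂ ≤ D) (inf_le_left : D ⊓ centralizer (T : Set G) ≤ D)
  rw [e2, ← inf_assoc, inf_eq_left.2 (le_sup_right : V₂ ≤ D)] at s1
  have s2 := card_sup_mul hDD (le_sup_left : V₁ ≤ D) (inf_le_left : D ⊓ centralizer (A : Set G) ≤ D)
  rw [← inf_assoc, inf_eq_left.2 (le_sup_left : V₁ ≤ D)] at s2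
  have hle : V₁ ⊔ (D ⊓ centralizer (A : Set G)) ≤ D ⊓ centralizer (T : Set G) :=
    sup_le (le_inf le_sup_left hV1T) (inf_le_inf_left _ (centralizer_le inf_le_left))
  have hy := Subgroup.card_le_of_le hle
  have r1 : (centralizer (V₁ : Set G)).relIndex A * Nat.card T = Nat.card A := rel_mul_card _ _
  have r2 := rel_mul_card V₁ (centralizer (A : Set G))
  have r3 := rel_mul_card T (centralizer (V₂ : Set G))
  have r4 := rel_mul_card V₂ (centralizer (T : Set G))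
  set d := Nat.card D
  set da := Nat.card ↥(D ⊓ centralizer (A : Set G))
  set dT := Nat.card ↥(D ⊓ centralizer (T : Set G))
  set v1 := Nat.card V₁
  set v1A := Nat.card ↥(V₁ ⊓ centralizer (A : Set G))
  set v2 := Nat.card V₂
  set v2T := Nat.card ↥(V₂ ⊓ centralizer (T : Set G))
  set a := Nat.card A
  set t := Nat.card T
  set t2 := Nat.card ↥(T ⊓ centralizer (V₂ : Set G))
  set y := Nat.card ↥(V₁ ⊔ (D ⊓ centralizer (A : Set G)) : Subgroup G)
  have pda : 0 < da := Nat.card_pos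
  have pdT : 0 < dT := Nat.card_pos
  have pv1A : 0 < v1A := Nat.card_pos
  have pv2T : 0 < v2T := Nat.card_pos
  have pt : 0 < t := Nat.card_pos
  have pt2 : 0 < t2 := Nat.card_pos
  have pv1 : 0 < v1 := Nat.card_pos
  -- the chain
  have c1 : (a * v1A) * (da * v2T) ≤ (v1 * t) * (da * v2T) := Nat.mul_le_mul_right _ h1'
  have c2 : (v1 * t) * (da * v2T) = y * (v1A * (t * v2T)) := by
    calc (v1 * t) * (da * v2T) = (v1 * da) * (t * v2T) := by ring
      _ = y * (v1A * (t * v2T)) := by rw [← s2]; ring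
  have c3 : y * (v1A * (t * v2T)) ≤ dT * (v1A * (t * v2T)) := Nat.mul_le_mul_right _ hy
  have c4 : dT * (v1A * (t * v2T)) ≤ dT * (v1A * (v2 * t2)) :=
    Nat.mul_le_mul_left _ (Nat.mul_le_mul_left _ h2')
  have c5 : dT * (v1A * (v2 * t2)) ≤ (a * v1A) * (da * v2T) := by
    calc dT * (v1A * (v2 * t2)) = v1A * t2 * (v2 * dT) := by ring
      _ = (d * t2) * (v1A * v2T) := by rw [← s1]; ring
      _ ≤ (a * da) * (v1A * v2T) := Nat.mul_le_mul_right _ hD'
      _ = _ := by ring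
  have q1 : a * v1A = v1 * t := by
    have : (a * v1A) * (da * v2T) = (v1 * t) * (da * v2T) :=
      le_antisymm c1 (c2.le.trans (c3.trans (c4.trans c5)))
    exact Nat.eq_of_mul_eq_mul_right (Nat.mul_pos pda pv2T) this
  have q2 : t * v2T = v2 * t2 := by
    have h3 : dT * (v1A * (t * v2T)) = dT * (v1A * (v2 * t2)) :=
      le_antisymm c4 (c5.trans (c1.trans (c2.le.trans c3)))
    exact Nat.eq_of_mul_eq_mul_left pv1A (Nat.eq_of_mul_eq_mul_left pdT h3)
  have q3 : y = dT := by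
    have h3 : y * (v1A * (t * v2T)) = dT * (v1A * (t * v2T)) :=
      le_antisymm c3 (c4.trans (c5.trans (c1.trans c2.le)))
    exact Nat.eq_of_mul_eq_mul_right (Nat.mul_pos pv1A (Nat.mul_pos pt pv2T)) h3
  refine ⟨le_antisymm h1 (relIndex_le_iff.1 q1.ge), le_antisymm h2 (relIndex_le_iff.1 q2.ge), ?_⟩
  exact (Subgroup.eq_of_le_of_card_ge hle q3.ge).symm

variable {S : Sylow 2 G} {P A : Subgroup G}

omit [Finite G] in
theorem cent_o2 (hc : IsCharacteristicTwoType G) [Finite G] (hP : IsParS (S : Subgroup G) P) :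
    o2 P ≤ centralizer (zl (S : Subgroup G) P : Set G) := by
  rw [← hP.inf_centralizer S hc]; exact inf_le_right

/-- `⟨A^P⟩ S = P` -/
theorem sup_LL (hc : IsCharacteristicTwoType G) (hP : IsParS (S : Subgroup G) P) (hA : A ≤ (S : Subgroup G))
    (hne : ¬ A ≤ centralizer (zl (S : Subgroup G) P : Set G)) : LL P A ⊔ (S : Subgroup G) = P := by
  rcases hP.toIsPar.sup_eq_or_inf_le S (LL_le_self (hA.trans hP.le)) (le_normalizer_LL P A) with h1 | h1
  · exact h1
  · exact absurd (((le_inf hA (le_LL P A)).trans h1).trans (cent_o2 hc hP)) hne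

/-- **A good conjugate.** -/
theorem exists_good (hc : IsCharacteristicTwoType G) (hP : IsParS (S : Subgroup G) P) (hA : A ≤ (S : Subgroup G))
    (hne : ¬ A ≤ centralizer (zl (S : Subgroup G) P : Set G)) : ∃ h ∈ P, P ≤ (S : Subgroup G) ⊔ cj h A := by
  by_contra hcon
  push Not at hcon
  obtain ⟨M, hM, hmax⟩ := hP.exists_max
  have hAP : A ≤ P := hA.trans hP.le
  have h1 : ∀ h ∈ P, cj h A ≤ M := by
    intro h hh
    have h2 : cj h A ≤ P := by
      have := cj_mono h hAP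
      rwa [cj_eq_of_mem_normalizer (le_normalizer hh)] at this
    have h3 : (S : Subgroup G) ⊔ cj h A ≤ P := sup_le hP.le h2
    exact le_sup_right.trans (hmax _ le_sup_left (lt_of_le_not_ge h3 (hcon h hh)))
  have h2 : (S : Subgroup G) ≤ M := hmax _ le_rfl (lt_of_le_not_ge hP.le fun h0 => hP.not_le
    (h0.trans le_normalizer))
  have h3 : P ≤ M := by
    rw [← sup_LL hc hP hA hne]
    exact sup_le (LL_le h1) h2
  exact absurd h3 (not_le_of_gt hM)

/-- `P = ⟨S, S^p⟩` for some `p ∈ P`. -/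
theorem exists_conj_sup (hP : IsParS (S : Subgroup G) P) : ∃ p ∈ P, P ≤ (S : Subgroup G) ⊔ cj p (S : Subgroup G) := by
  have hf : Fact (Nat.Prime 2) := ⟨Nat.prime_two⟩
  by_contra hcon
  push Not at hcon
  obtain ⟨M, hM, hmax⟩ := hP.exists_max
  have h2 : (S : Subgroup G) ≤ M := hmax _ le_rfl (lt_of_le_not_ge hP.le fun h0 => hP.not_le
    (h0.trans le_normalizer))
  have hN : P ⊓ normalizer ((S : Subgroup G) : Set G) ≤ M := by
    refine hmax _ (le_inf hP.le le_normalizer) (lt_of_le_not_ge inf_le_left fun h0 => hP.not_le ?_)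
    exact h0.trans inf_le_right
  refine absurd (fun p hp => ?_ : P ≤ M) (not_le_of_gt hM)
  have h3 : cj p (S : Subgroup G) ≤ P := by
    have := cj_mono p hP.le
    rwa [cj_eq_of_mem_normalizer (le_normalizer hp)] at this
  have h4 : cj p (S : Subgroup G) ≤ M :=
    le_sup_right.trans (hmax _ le_sup_left (lt_of_le_not_ge (sup_le hP.le h3) (hcon p hp)))
  obtain ⟨m, hm, h5⟩ := NoFF.Main.exists_le_conj S h2 (isPGroup_cj p S.isPGroup') h4
  have h6 : cj p (S : Subgroup G) = cj m (S : Subgroup G) :=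
    eq_of_le_of_card_ge h5 (by rw [card_cj]; exact (card_cj _ _).ge)
  have h7 : m⁻¹ * p ∈ normalizer ((S : Subgroup G) : Set G) := NO3b.EZero.cj_eq_cj_iff.1 h6
  have h7' : m⁻¹ * p ∈ P := P.mul_mem (P.inv_mem (hM.le hm)) hp
  have h8 : m⁻¹ * p ∈ M := hN ⟨h7', h7⟩
  have e : p = m * (m⁻¹ * p) := by group
  rw [e]
  exact mul_mem hm h8

/-- A 2-element of `P` which centralises `V_P` is in `O₂(P)`. -/
theorem mem_o2_of_two' (hc : IsCharacteristicTwoType G) (hP : IsParS (S : Subgroup G) P) {c : G} (hcP : c ∈ P)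
    (hcc : c ∈ centralizer (zl (S : Subgroup G) P : Set G)) {k : ℕ} (hk : c ^ 2 ^ k = 1) : c ∈ o2 P := by
  have hz : IsPGroup 2 (zpowers c) := by
    rw [IsPGroup.iff_card, Nat.card_zpowers]
    obtain ⟨j, -, hj⟩ := (Nat.dvd_prime_pow Nat.prime_two).1 (orderOf_dvd_of_pow_eq_one hk)
    exact ⟨j, hj⟩
  obtain ⟨n, hn, hnS⟩ := FFThm.exists_conj_le S hP.le hz ((zpowers_le).2 hcP)
  have h1 : n * c * n⁻¹ ∈ (S : Subgroup G) := hnS ⟨c, mem_zpowers c, rfl⟩
  have h2 : n * c * n⁻¹ ∈ centralizer (zl (S : Subgroup G) P : Set G) := by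
    rw [mem_centralizer_iff] at hcc ⊢
    intro v hv
    have h3 := hcc _ ((mem_normalizer_iff''.1 (le_normalizer_zl (S : Subgroup G) P hn) v).1 hv)
    have e1 : v * (n * c * n⁻¹) = n * ((n⁻¹ * v * n) * c) * n⁻¹ := by group
    have e2 : n * c * n⁻¹ * v = n * (c * (n⁻¹ * v * n)) * n⁻¹ := by group
    rw [e1, e2, h3]
  have h3 : n * c * n⁻¹ ∈ o2 P := by
    rw [← hP.inf_centralizer S hc]; exact ⟨h1, h2⟩
  exact (mem_normalizer_iff.1 (le_normalizer_o2 P hn) c).2 h3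

/-- A nontrivial subgroup `D ≤ S` with `P ≤ N(D)` contains `z ∈ Z#`. -/
theorem exists_zc {D : Subgroup G} (hD : D ≤ (S : Subgroup G)) (hsq : ∀ d ∈ D, d ^ 2 = 1)
    (hn : (S : Subgroup G) ≤ normalizer (D : Set G)) (hne : D ≠ ⊥) :
    ∃ z ∈ zc (S : Subgroup G), z ≠ 1 ∧ z ∈ D := by
  obtain ⟨x, hx, hx1, hxS⟩ := NoFF.LinesPlug.exists_fixed S.isPGroup' hD hn hne
  exact ⟨x, mem_zc.2 ⟨hD hx, fun s hs => hxS s hs, hsq x hx⟩, hx1, hx⟩

/-- `⟨A^P⟩` and `S` centralise nothing in `Z#`. -/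
theorem not_cent_LL (hc : IsCharacteristicTwoType G) (hP : IsParS (S : Subgroup G) P)
    (hcz : zc (S : Subgroup G) ⊓ centralizer (P : Set G) = ⊥) (hA : A ≤ (S : Subgroup G))
    (hne : ¬ A ≤ centralizer (zl (S : Subgroup G) P : Set G)) {z : G} (hz : z ∈ zc (S : Subgroup G))
    (hcen : z ∈ centralizer (LL P A : Set G)) : z = 1 := by
  have hxP : z ∈ centralizer (P : Set G) := by
    have h1 : P ≤ centralizer ({z} : Set G) := by
      rw [← sup_LL hc hP hA hne]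
      refine sup_le (fun l hl => ?_) fun s hs => ?_
      · rw [mem_centralizer_singleton_iff]
        exact mem_centralizer_iff.1 hcen l hl
      · rw [mem_centralizer_singleton_iff]
        exact (mem_zc.1 hz).2.1 s hs
    rw [mem_centralizer_iff]
    intro p hp
    exact mem_centralizer_singleton_iff.1 (h1 hp)
  have h2 : z ∈ zc (S : Subgroup G) ⊓ centralizer (P : Set G) := ⟨hz, hxP⟩
  rwa [hcz, mem_bot] at h2

/-- **`N = V_P`.** -/
theorem eq_line (hc : IsCharacteristicTwoType G) (hP : IsParS (S : Subgroup G) P)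
    (hcz : zc (S : Subgroup G) ⊓ centralizer (P : Set G) = ⊥) (hr : RP (S : Subgroup G) P)
    (hA : MinOffM (zl (S : Subgroup G) P) (S : Subgroup G) A) {N : Subgroup G}
    (hWN : zl (S : Subgroup G) P ≤ N) (hNsq : ∀ n ∈ N, n ^ 2 = 1)
    (hNS : N ≤ (S : Subgroup G)) (hPN : P ≤ normalizer (N : Set G)) (hQN : o2 P ≤ centralizer (N : Set G))
    (htriv : ∀ l ∈ LL P A, ∀ n ∈ N, l * n * l⁻¹ * n⁻¹ ∈ zl (S : Subgroup G) P)
    (hrel : (centralizer (A : Set G)).relIndex N ≤ (centralizer (zl (S : Subgroup G) P : Set G)).relIndex A) :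
    N = zl (S : Subgroup G) P := by
  set W := zl (S : Subgroup G) P with hW
  obtain ⟨X, hXP, hXc, hXb, hXg⟩ := hr.gen A hA
  set q := (centralizer (W : Set G)).relIndex A with hq
  have hAne : ¬ A ≤ centralizer (W : Set G) := hA.off.ne
  -- the indices
  have hidx : ∀ x ∈ X, (centralizer ((cj x A : Subgroup G) : Set G)).relIndex N ≤ q := by
    intro x hx
    have hxN : cj x N = N := cj_eq_of_mem_normalizer (hPN (hXP x hx))
    have h1 : (centralizer ((cj x A : Subgroup G) : Set G)).relIndex N = (centralizer (A : Set G)).relIndex N := by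
      conv_lhs => rw [← hxN, ← cj_centralizer]
      exact relIndex_map_map_of_injective _ _ (MulAut.conj x).injective
    rw [h1]
    exact hrel
  have hcard := card_le_of_finset (N := N) (fun x => centralizer ((cj x A : Subgroup G) : Set G)) X hidx
  -- the common fixed points are fixed by `LL`
  have hfix : N ⊓ (⨅ x ∈ X, centralizer ((cj x A : Subgroup G) : Set G)) ≤ centralizer (LL P A : Set G) := by
    intro n hn
    have hnN : n ∈ N := hn.1
    have hnX : ∀ x ∈ X, n ∈ centralizer ((cj x A : Subgroup G) : Set G) := by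
      intro x hx
      exact mem_iInf.1 (mem_iInf.1 hn.2 x) hx
    have h0 : (⨆ x ∈ X, cj x A) ≤ centralizer ({n} : Set G) := by
      refine iSup₂_le fun x hx l hl => ?_
      rw [mem_centralizer_singleton_iff]
      exact mem_centralizer_iff.1 (hnX x hx) l hl
    have h0P : (⨆ x ∈ X, cj x A) ≤ LL P A := iSup₂_le fun x hx => cj_le_LL (hXP x hx)
    have hLP : LL P A ≤ P := LL_le_self (hA.le.trans hP.le)
    have hCn : P ≤ normalizer ((P ⊓ centralizer (W : Set G) : Subgroup G) : Set G) := by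
      intro p hp
      apply mem_normalizer_of_cj_le
      rw [cj_inf, cj_centralizer, cj_eq_of_mem_normalizer (le_normalizer hp),
        cj_eq_of_mem_normalizer (le_normalizer_zl (S : Subgroup G) P hp)]
    have h3 : LL P A ≤ centralizer ({n} : Set G) := by
      refine LL_le fun p hp l hl => ?_
      have hlL : l ∈ LL P A := cj_le_LL hp hl
      obtain ⟨a, ha, c, hcc, hlac⟩ := exists_mul_of_sup ((h0P.trans hLP).trans hCn) (hXg p hp hl)
      have hcL : c ∈ LL P A := by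
        have e : c = a⁻¹ * l := by rw [hlac]; group
        rw [e]
        exact mul_mem (inv_mem (h0P ha)) hlL
      -- `c` centralises `n`
      have hcn : c ∈ centralizer ({n} : Set G) := by
        have hw := htriv c hcL n hnN
        have hcw := mem_centralizer_iff.1 hcc.2 _ hw
        -- `c²`
        have hc2 : c ^ 2 ∈ centralizer ({n} : Set G) := by
          rw [mem_centralizer_singleton_iff]
          have hsq : (c * n * c⁻¹ * n⁻¹) ^ 2 = 1 := hNsq _ (hWN hw)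
          have e1 : c ^ 2 * n * (c ^ 2)⁻¹ * n⁻¹ =
              (c * (c * n * c⁻¹ * n⁻¹) * c⁻¹) * (c * n * c⁻¹ * n⁻¹) := by rw [pow_two]; group
          have e2 : c * (c * n * c⁻¹ * n⁻¹) * c⁻¹ = c * n * c⁻¹ * n⁻¹ := by
            rw [← hcw]; group
          rw [e2, ← pow_two, hsq] at e1
          have e3 : c ^ 2 * n = (c ^ 2 * n * (c ^ 2)⁻¹ * n⁻¹) * (n * c ^ 2) := by group
          rw [e3, e1, one_mul]
        -- the 2-part
        obtain ⟨k, j, hj, hkj⟩ := Nat.exists_eq_two_pow_mul_odd (orderOf_pos c).ne'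
        have hcj : c ^ j ∈ centralizer ({n} : Set G) := by
          have h4 : (c ^ j) ^ 2 ^ k = 1 := by
            rw [← pow_mul, mul_comm, ← hkj, pow_orderOf_eq_one]
          have h5 : c ^ j ∈ o2 P := mem_o2_of_two' hc hP (pow_mem hcc.1 j) (pow_mem hcc.2 j) h4
          rw [mem_centralizer_singleton_iff]
          exact (mem_centralizer_iff.1 (hQN h5) n hnN).symm
        exact mem_of_odd hj hc2 hcj
      rw [hlac]
      exact mul_mem (h0 ha) hcn
    rw [mem_centralizer_iff]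
    intro l hl
    exact mem_centralizer_singleton_iff.1 (h3 hl)
  have hbot : N ⊓ (⨅ x ∈ X, centralizer ((cj x A : Subgroup G) : Set G)) = ⊥ := by
    by_contra hne
    have hn : (S : Subgroup G) ≤ normalizer
        ((N ⊓ centralizer (LL P A : Set G) : Subgroup G) : Set G) := by
      intro s hs
      apply mem_normalizer_of_cj_le
      rw [cj_inf, cj_centralizer, cj_eq_of_mem_normalizer (hPN (hP.le hs)),
        cj_eq_of_mem_normalizer (le_normalizer_LL P A (hP.le hs))]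
    have hne' : N ⊓ centralizer (LL P A : Set G) ≠ ⊥ := fun h0 => hne (by
      rw [eq_bot_iff, ← h0]
      exact le_inf inf_le_left hfix)
    obtain ⟨z, hz, hz1, hzN⟩ := exists_zc (inf_le_left.trans hNS) (fun d hd => hNsq d hd.1) hn hne'
    exact hz1 (not_cent_LL hc hP hcz hA.le hAne hz hzN.2)
  rw [hbot, card_bot, mul_one] at hcard
  exact (Subgroup.eq_of_le_of_card_ge hWN (hcard.trans hXc)).symm

end Cfsg.Agent.Omega.NOThreeL.FFB

end

section


/-!
# THEOREM FFB (#19580, helper275): the core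

`S` a Sylow 2-subgroup, `P₁`, `P₂ ∈ P*(S)`, `V₁ = V_{P₁}`, `V₂ = V_{P₂}`, `W ≤ S` a 2-group such that every `W^h`,
`h ∈ P₁`, acts on `V₁V₂` like the group `W_F` of FLAT (`Core`).

* `Core.step` : (1), `T_h = C_{W^h}(V₁)` is exact or trivial on `V₂`, `C_{V₁V₂}(T_h) = V₁ C_{V₁V₂}(W^h)`;
* `Core.X0_le` : (2), `C_{V₂}(W~) ≤ V₁`, `W~ = ⟨C_W(V₁)^{P₁}⟩`;
* `Core.off_two` : (3), `V₂` is FF;
* `Core.false` : (4).
-/

set_option autoImplicit false

namespace Cfsg.Agent.Omega.NOThreeL.FFB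

open Subgroup Cfsg
open Cfsg.Agent.ZN
open Cfsg.Agent.ZN.ChoiceBase hiding mem_zc
open Cfsg.Agent.Omega.MinPar Cfsg.Agent.Omega.Frame Cfsg.Agent.Omega.FrameNOFF
open Cfsg.Agent.Omega.NO3b.EZero (NotFF cent_symm cj_cent cj_norm)
open Cfsg.Agent.Omega.FFThm (ElemM OffM NoOverM ConclM relIndex_le_iff)
open Cfsg.Agent.Omega.NOThreeL.Star (card_sup_mul rel_mul_card)
open Cfsg.Agent.Omega.NOThreeL.NF
open Cfsg.Agent.MinSimple.VModule (mem_zc zc_le zc_sq zc_comm le_centralizer_zc zc_le_zl zl_le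
  le_normalizer_zl normalizer_le_normalizer_zc le_normalizer_o2 o2_isPGroup o2_le)
open scoped commutatorElement

universe u

variable {G : Type u} [Group G]

/-! ### Fixed points modulo a normal subgroup -/

/-- A 2-group `X` acting on `T / K` has a fixed point. -/
theorem exists_fix_mod [Finite G] {X K T : Subgroup G} (hX : IsPGroup 2 X) (hT : T ≤ X)
    (hXT : X ≤ normalizer (T : Set G)) (hXK : X ≤ normalizer (K : Set G)) (hne : ¬ T ≤ K) :
    ∃ o ∈ T, o ∉ K ∧ ∀ x ∈ X, x * o * x⁻¹ * o⁻¹ ∈ K := by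
  have hf : Fact (Nat.Prime 2) := ⟨Nat.prime_two⟩
  have hKn : (K.subgroupOf X).Normal := normal_subgroupOf_of_le_normalizer hXK
  have hTn : (T.subgroupOf X).Normal := normal_subgroupOf_of_le_normalizer hXT
  have hQ : IsPGroup 2 (X ⧸ K.subgroupOf X) := hX.to_quotient _
  have hnil : Group.IsNilpotent (X ⧸ K.subgroupOf X) := hQ.isNilpotent
  have hTm : ((T.subgroupOf X).map (QuotientGroup.mk' (K.subgroupOf X))).Normal :=
    hTn.map _ (QuotientGroup.mk'_surjective _)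
  have h1 : (T.subgroupOf X).map (QuotientGroup.mk' (K.subgroupOf X)) ≠ ⊥ := by
    intro h0
    apply hne
    intro t ht
    have h2 : QuotientGroup.mk' (K.subgroupOf X) ⟨t, hT ht⟩ ∈
        (T.subgroupOf X).map (QuotientGroup.mk' (K.subgroupOf X)) := ⟨_, ht, rfl⟩
    rw [h0, mem_bot] at h2
    exact (QuotientGroup.eq_one_iff (⟨t, hT ht⟩ : X)).1 h2
  have h2 := Lib.NormalAbelian.normal_inf_center_ne_bot _ h1
  obtain ⟨⟨x, hx⟩, hx1⟩ := Subgroup.ne_bot_iff_exists_ne_one.1 h2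
  obtain ⟨⟨o, ho, hox⟩, hcen⟩ := hx
  refine ⟨o, ho, fun hK => hx1 (Subtype.ext ?_), fun y hy => ?_⟩
  · change x = 1
    rw [← hox]
    exact (QuotientGroup.eq_one_iff o).2 hK
  · have h3 := mem_center_iff.1 hcen (QuotientGroup.mk' (K.subgroupOf X) ⟨y, hy⟩)
    rw [← hox, ← map_mul, ← map_mul] at h3
    have h4 : QuotientGroup.mk' (K.subgroupOf X) ((⟨y, hy⟩ : X) * o * (⟨y, hy⟩ : X)⁻¹ * o⁻¹) = 1 := by
      rw [map_mul, map_mul, h3, ← map_mul, ← map_mul]
      have e : o * (⟨y, hy⟩ : X) * (⟨y, hy⟩ : X)⁻¹ * o⁻¹ = 1 := by group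
      rw [e, map_one]
    exact mem_subgroupOf.1 ((QuotientGroup.eq_one_iff (N := K.subgroupOf X)
      ((⟨y, hy⟩ : X) * o * (⟨y, hy⟩ : X)⁻¹ * o⁻¹)).1 h4)

variable [Finite G]

/-- The situation of THEOREM FFB. -/
structure Core (S : Sylow 2 G) (P₁ P₂ W : Subgroup G) : Prop where
  hc : IsCharacteristicTwoType G
  hS : (S : Subgroup G) ≠ ⊥
  par₁ : IsParS (S : Subgroup G) P₁
  par₂ : IsParS (S : Subgroup G) P₂
  cz₁ : zc (S : Subgroup G) ⊓ centralizer (P₁ : Set G) = ⊥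
  comm : zl (S : Subgroup G) P₁ ≤ centralizer (zl (S : Subgroup G) P₂ : Set G)
  le : W ≤ (S : Subgroup G)
  ne : ¬ W ≤ centralizer (zl (S : Subgroup G) P₁ : Set G)
  elem : ∀ h ∈ P₁, ElemM (zl (S : Subgroup G) P₁ ⊔ zl (S : Subgroup G) P₂) (cj h W)
  off : ∀ h ∈ P₁, ∀ Y ≤ zl (S : Subgroup G) P₁ ⊔ zl (S : Subgroup G) P₂,
    (centralizer (cj h W : Set G)).relIndex Y ≤ (centralizer (Y : Set G)).relIndex (cj h W)
  quad : ∀ h ∈ P₁, ∀ v ∈ zl (S : Subgroup G) P₂, ∀ w ∈ cj h W, ⁅v, w⁆ ∈ centralizer (cj h W : Set G)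
  no₁ : NoOverM (zl (S : Subgroup G) P₁) P₁
  no₂ : (∃ A : Subgroup G, A ≤ P₂ ∧ OffM (zl (S : Subgroup G) P₂) A) → NoOverM (zl (S : Subgroup G) P₂) P₂
  rp₁ : RP (S : Subgroup G) P₁
  rp₂ : (∃ A : Subgroup G, A ≤ P₂ ∧ OffM (zl (S : Subgroup G) P₂) A) → RP (S : Subgroup G) P₂
  rp2 : (∃ A : Subgroup G, A ≤ P₂ ∧ OffM (zl (S : Subgroup G) P₂) A) → RP2 (S : Subgroup G) P₂
  abs₁ : (∃ A : Subgroup G, A ≤ P₂ ∧ OffM (zl (S : Subgroup G) P₂) A) → ∀ z ∈ zc (S : Subgroup G), z ≠ 1 →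
    ∀ p ∈ P₁, P₁ ≤ (S : Subgroup G) ⊔ cj p (S : Subgroup G) → p * z * p⁻¹ ∉ zl (S : Subgroup G) P₂
  abs₂ : ∀ z ∈ zc (S : Subgroup G), z ≠ 1 → ∀ p ∈ P₂, P₂ ≤ (S : Subgroup G) ⊔ cj p (S : Subgroup G) →
    p * z * p⁻¹ ∉ zl (S : Subgroup G) P₁

omit [Finite G] in
theorem ElemM.mono_left {V V' A : Subgroup G} (h : ElemM V A) (hV : V' ≤ V) : ElemM V' A :=
  ⟨fun a ha => centralizer_le hV (h.sq a ha), fun a ha b hb => centralizer_le hV (h.comm a ha b hb)⟩

omit [Finite G] in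
theorem ElemM.mono_right {V A A' : Subgroup G} (h : ElemM V A) (hA : A' ≤ A) : ElemM V A' :=
  ⟨fun a ha => h.sq a (hA ha), fun a ha b hb => h.comm a (hA ha) b (hA hb)⟩

theorem zl_comm' (hc : IsCharacteristicTwoType G) {S : Sylow 2 G} {P : Subgroup G} (hP : IsParS (S : Subgroup G) P) :
    zl (S : Subgroup G) P ≤ centralizer (zl (S : Subgroup G) P : Set G) := by
  intro x hx
  rw [mem_centralizer_iff]
  intro y hy
  exact zc_comm _ _ (hP.isLoc.zl_le S hc hy) _ (hP.isLoc.zl_le S hc hx)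

theorem zl_sq' (hc : IsCharacteristicTwoType G) {S : Sylow 2 G} {P : Subgroup G} (hP : IsParS (S : Subgroup G) P) :
    ∀ v ∈ zl (S : Subgroup G) P, v ^ 2 = 1 := fun v hv => zc_sq _ v (hP.isLoc.zl_le S hc hv)

theorem zl_le_S' (hc : IsCharacteristicTwoType G) {S : Sylow 2 G} {P : Subgroup G} (hP : IsParS (S : Subgroup G) P) :
    zl (S : Subgroup G) P ≤ (S : Subgroup G) :=
  ((hP.isLoc.zl_le S hc).trans (zc_le _)).trans (hP.isLoc.o2_le S)

variable {S : Sylow 2 G} {P₁ P₂ W : Subgroup G}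

/-- `T_h` -/
def TT (V₁ W : Subgroup G) (h : G) : Subgroup G := cj h W ⊓ centralizer (V₁ : Set G)

/-- `W~` -/
def Wt (V₁ P₁ W : Subgroup G) : Subgroup G := LL P₁ (W ⊓ centralizer (V₁ : Set G))

namespace Core

variable (c : Core S P₁ P₂ W)
include c

local notation "V₁" => zl (S : Subgroup G) P₁
local notation "V₂" => zl (S : Subgroup G) P₂

theorem D_comm : V₁ ⊔ V₂ ≤ centralizer ((V₁ ⊔ V₂ : Subgroup G) : Set G) :=
  sup_le (cent_symm (sup_le (zl_comm' c.hc c.par₁) (cent_symm c.comm)))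
    (cent_symm (sup_le c.comm (zl_comm' c.hc c.par₂)))

theorem D_sq : ∀ d ∈ V₁ ⊔ V₂, d ^ 2 = 1 := by
  intro d hd
  obtain ⟨a, ha, b, hb, rfl⟩ := mem_sup_of_comm c.comm hd
  have h1 : a * b = b * a := (mem_centralizer_iff.1 (c.comm ha) b hb).symm
  rw [(show Commute a b from h1).mul_pow, zl_sq' c.hc c.par₁ a ha, zl_sq' c.hc c.par₂ b hb, one_mul]

theorem D_le : V₁ ⊔ V₂ ≤ (S : Subgroup G) := sup_le (zl_le_S' c.hc c.par₁) (zl_le_S' c.hc c.par₂)

theorem D_norm : (S : Subgroup G) ≤ normalizer ((V₁ ⊔ V₂ : Subgroup G) : Set G) := by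
  intro s hs
  apply mem_normalizer_of_cj_le
  change (V₁ ⊔ V₂).map _ ≤ _
  rw [Subgroup.map_sup]
  refine sup_le_sup (le_of_eq (cj_eq_of_mem_normalizer ?_)) (le_of_eq (cj_eq_of_mem_normalizer ?_))
  · exact le_normalizer_zl _ _ (c.par₁.le hs)
  · exact le_normalizer_zl _ _ (c.par₂.le hs)

omit [Finite G] in
theorem W_le : W ≤ P₁ := c.le.trans c.par₁.le

omit [Finite G] in
theorem cjW_le {h : G} (hh : h ∈ P₁) : cj h W ≤ P₁ := by
  have := cj_mono h c.W_le
  rwa [cj_eq_of_mem_normalizer (le_normalizer hh)] at this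

omit [Finite G] c in
theorem TT_eq {h : G} (hh : h ∈ P₁) : TT V₁ W h = cj h (W ⊓ centralizer (V₁ : Set G)) := by
  unfold TT
  rw [cj_inf, cj_centralizer, cj_eq_of_mem_normalizer (le_normalizer_zl (S : Subgroup G) P₁ hh)]

theorem W0_le : W ⊓ centralizer (V₁ : Set G) ≤ o2 P₁ := by
  rw [← c.par₁.inf_centralizer S c.hc]
  exact inf_le_inf_right _ c.le

theorem Wt_le : Wt V₁ P₁ W ≤ o2 P₁ := LL_le fun p hp => by
  have := cj_mono p c.W0_le
  rwa [cj_eq_of_mem_normalizer (le_normalizer_o2 P₁ hp)] at this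

theorem TT_le_Wt {h : G} (hh : h ∈ P₁) : TT V₁ W h ≤ Wt V₁ P₁ W := by
  rw [TT_eq hh]; exact cj_le_LL hh

theorem o2_le_S : o2 P₁ ≤ (S : Subgroup G) := c.par₁.isLoc.o2_le S

omit c in
theorem Wt_norm : P₁ ≤ normalizer (Wt V₁ P₁ W : Set G) := le_normalizer_LL _ _

theorem Wt_cent : Wt V₁ P₁ W ≤ centralizer (V₁ : Set G) := c.Wt_le.trans (cent_o2 c.hc c.par₁)

/-- **(1)** -/
theorem step {h : G} (hh : h ∈ P₁) :
    (centralizer (V₁ : Set G)).relIndex (cj h W) = (centralizer (cj h W : Set G)).relIndex V₁ ∧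
      (centralizer (V₂ : Set G)).relIndex (TT V₁ W h) = (centralizer (TT V₁ W h : Set G)).relIndex V₂ ∧
      (V₁ ⊔ V₂) ⊓ centralizer (TT V₁ W h : Set G) = V₁ ⊔ ((V₁ ⊔ V₂) ⊓ centralizer (cj h W : Set G)) := by
  have hT : TT V₁ W h ≤ P₂ := ((c.TT_le_Wt hh).trans c.Wt_le).trans (c.o2_le_S.trans c.par₂.le)
  have hE : ElemM V₂ (TT V₁ W h) := ElemM.mono_right (ElemM.mono_left (c.elem h hh) le_sup_right) inf_le_left
  refine exact_step (zl_comm' c.hc c.par₁) (zl_comm' c.hc c.par₂) c.comm (c.off h hh _ le_rfl) ?_ ?_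
  · exact relIndex_le_iff.1 (c.no₁ _ (c.cjW_le hh) (ElemM.mono_left (c.elem h hh) le_sup_left))
  · change (centralizer (V₂ : Set G)).relIndex (TT V₁ W h) ≤ (centralizer (TT V₁ W h : Set G)).relIndex V₂
    by_cases h1 : TT V₁ W h ≤ centralizer (V₂ : Set G)
    · rw [relIndex_eq_one.2 h1]
      have h2 : (centralizer (TT V₁ W h : Set G)).relIndex V₂ ≠ 0 := Subgroup.FiniteIndex.index_ne_zero
        (H := (centralizer (TT V₁ W h : Set G)).subgroupOf V₂)
      omega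
    · by_contra hcon
      have h3 : OffM V₂ (TT V₁ W h) := ⟨hE, h1, relIndex_le_iff.2 (le_of_not_ge hcon)⟩
      exact hcon (relIndex_le_iff.1 (c.no₂ ⟨_, hT, h3⟩ _ hT hE))

theorem off_TT {h : G} (hh : h ∈ P₁) (hne : ¬ TT V₁ W h ≤ centralizer (V₂ : Set G)) :
    OffM V₂ (TT V₁ W h) :=
  ⟨ElemM.mono_right (ElemM.mono_left (c.elem h hh) le_sup_right) inf_le_left, hne,
    relIndex_le_iff.2 (c.step hh).2.1.ge⟩

theorem exists_good' : ∃ h ∈ P₁, P₁ ≤ (S : Subgroup G) ⊔ cj h W := exists_good c.hc c.par₁ c.le c.ne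

theorem exists_z : ∃ z ∈ zc (S : Subgroup G), z ≠ 1 := by
  obtain ⟨a, ha⟩ := Subgroup.ne_bot_iff_exists_ne_one.1 (MinSimple.Basic.zc_ne_bot S.isPGroup' c.hS)
  exact ⟨a, a.2, fun h0 => ha (Subtype.ext h0)⟩

/-- `C_D(W~) = V₁ C_{V₂}(W~)` -/
theorem D0_eq : (V₁ ⊔ V₂) ⊓ centralizer (Wt V₁ P₁ W : Set G) = V₁ ⊔ (V₂ ⊓ centralizer (Wt V₁ P₁ W : Set G)) := by
  refine le_antisymm ?_ (sup_le (le_inf le_sup_left (cent_symm c.Wt_cent)) (inf_le_inf_right _ le_sup_right))
  rintro d ⟨hd, hd2⟩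
  obtain ⟨a, ha, b, hb, rfl⟩ := mem_sup_of_comm c.comm hd
  refine mul_mem ((le_sup_left : V₁ ≤ _) ha) ((le_sup_right : V₂ ⊓ _ ≤ _) ⟨hb, ?_⟩)
  have h1 := mul_mem (inv_mem (cent_symm c.Wt_cent ha)) hd2
  rwa [inv_mul_cancel_left] at h1

/-- **(2)** -/
theorem X0_le : V₂ ⊓ centralizer (Wt V₁ P₁ W : Set G) ≤ V₁ := by
  obtain ⟨h, hh, hgood⟩ := c.exists_good'
  set D := V₁ ⊔ V₂ with hD
  set D0 := D ⊓ centralizer (Wt V₁ P₁ W : Set G) with hD0
  have hV1D0 : V₁ ≤ D0 := le_inf le_sup_left (cent_symm c.Wt_cent)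
  have hX0D0 : V₂ ⊓ centralizer (Wt V₁ P₁ W : Set G) ≤ D0 := inf_le_inf_right _ le_sup_right
  have hV1n : P₁ ≤ normalizer (V₁ : Set G) := le_normalizer_zl _ _
  -- `D0 = V₁ C_{D0}(W^h)`
  have key : ∀ d ∈ D0, ∃ v ∈ V₁, ∃ e ∈ D0, e ∈ centralizer (cj h W : Set G) ∧ d = v * e := by
    intro d hd
    have h1 : d ∈ D ⊓ centralizer (TT V₁ W h : Set G) := ⟨hd.1, centralizer_le (c.TT_le_Wt hh) hd.2⟩
    rw [(c.step hh).2.2] at h1
    have h2 : V₁ ≤ centralizer ((D ⊓ centralizer (cj h W : Set G) : Subgroup G) : Set G) :=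
      le_sup_left.trans (c.D_comm.trans (centralizer_le inf_le_left))
    obtain ⟨v, hv, e, he, rfl⟩ := mem_sup_of_comm h2 h1
    refine ⟨v, hv, e, ?_, he.2, rfl⟩
    have h3 := mul_mem (inv_mem (hV1D0 hv)) hd
    rwa [inv_mul_cancel_left] at h3
  have htr : ∀ w ∈ cj h W, ∀ d ∈ D0, w * d * w⁻¹ * d⁻¹ ∈ V₁ := by
    intro w hw d hd
    obtain ⟨v, hv, e, he, hec, rfl⟩ := key d hd
    have h1 : w * e = e * w := mem_centralizer_iff.1 hec w hw
    have h2 : w * v * w⁻¹ ∈ V₁ := (mem_normalizer_iff.1 (hV1n (c.cjW_le hh hw)) v).1 hv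
    have e1 : w * (v * e) * w⁻¹ * (v * e)⁻¹ = (w * v * w⁻¹) * v⁻¹ := by
      calc w * (v * e) * w⁻¹ * (v * e)⁻¹ = w * v * w⁻¹ * (w * e) * w⁻¹ * e⁻¹ * v⁻¹ := by group
        _ = w * v * w⁻¹ * v⁻¹ := by rw [h1]; group
    rw [e1]
    exact mul_mem h2 (inv_mem hv)
  have hPN : P₁ ≤ normalizer (D0 : Set G) := by
    refine hgood.trans (sup_le (fun s hs => ?_) fun w hw => ?_)
    · apply mem_normalizer_of_cj_le
      rw [hD0, cj_inf, cj_centralizer, cj_eq_of_mem_normalizer (c.D_norm hs),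
        cj_eq_of_mem_normalizer (Wt_norm (c.par₁.le hs))]
    · apply mem_normalizer_of_cj_le
      rintro _ ⟨d, hd, rfl⟩
      have h1 := htr w hw d hd
      have e : (MulAut.conj w).toMonoidHom d = (w * d * w⁻¹ * d⁻¹) * d := by
        change w * d * w⁻¹ = _; group
      rw [e]
      exact mul_mem (hV1D0 h1) hd
  have htriv : ∀ l ∈ LL P₁ W, ∀ n ∈ D0, l * n * l⁻¹ * n⁻¹ ∈ V₁ := by
    have h1 : LL P₁ W ≤ KK D0 V₁ hV1D0 := by
      refine LL_le fun p hp => ?_
      rintro _ ⟨a, ha, rfl⟩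
      have haP : a ∈ P₁ := c.W_le ha
      have hpa : p * a * p⁻¹ ∈ P₁ := mul_mem (mul_mem hp haP) (inv_mem hp)
      refine ⟨hPN hpa, hV1n hpa, fun n hn => ?_⟩
      set y := p * h⁻¹ with hy
      have hyP : y ∈ P₁ := mul_mem hp (inv_mem hh)
      have hn' : y⁻¹ * n * y ∈ D0 := (mem_normalizer_iff''.1 (hPN hyP) n).1 hn
      have h2 := htr (h * a * h⁻¹) ⟨a, ha, rfl⟩ _ hn'
      have h3 := (mem_normalizer_iff.1 (hV1n hyP) _).1 h2
      change p * a * p⁻¹ * n * (p * a * p⁻¹)⁻¹ * n⁻¹ ∈ V₁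
      have e : p * a * p⁻¹ * n * (p * a * p⁻¹)⁻¹ * n⁻¹ =
          y * (h * a * h⁻¹ * (y⁻¹ * n * y) * (h * a * h⁻¹)⁻¹ * (y⁻¹ * n * y)⁻¹) * y⁻¹ := by
        rw [hy]; group
      rwa [e]
    exact fun l hl n hn => (h1 hl).2.2 n hn
  have hD0c : D0 ≤ centralizer (D0 : Set G) := inf_le_left.trans (c.D_comm.trans (centralizer_le inf_le_left))
  have hD0sq : ∀ n ∈ D0, n ^ 2 = 1 := fun n hn => c.D_sq n hn.1
  have hD0S : D0 ≤ (S : Subgroup G) := inf_le_left.trans c.D_le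
  by_cases hQ : o2 P₁ ≤ centralizer (D0 : Set G)
  · -- `D0 = V₁`
    have hoffW : OffM V₁ W := by
      have h1 := c.off 1 (one_mem _) V₁ le_sup_left
      have h2 := c.elem 1 (one_mem _)
      rw [cj_one] at h1 h2
      exact ⟨ElemM.mono_left h2 le_sup_left, c.ne, relIndex_le_iff.2 h1⟩
    obtain ⟨A, hAW, hA⟩ := exists_minOff c.le hoffW
    -- `D0 = V₁ C_{D0}(A)`
    have hsup : V₁ ⊔ (D0 ⊓ centralizer (A : Set G)) = D0 := by
      refine le_antisymm (sup_le hV1D0 inf_le_left) fun d hd => ?_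
      have hd' : h * d * h⁻¹ ∈ D0 := (mem_normalizer_iff.1 (hPN hh) d).1 hd
      obtain ⟨v, hv, e, he, hec, hve⟩ := key _ hd'
      have e1 : d = (h⁻¹ * v * h) * (h⁻¹ * e * h) := by
        have : d = h⁻¹ * (h * d * h⁻¹) * h := by group
        rw [this, hve]; group
      rw [e1]
      refine mul_mem ((le_sup_left : V₁ ≤ _) ((mem_normalizer_iff''.1 (hV1n hh) v).1 hv))
        ((le_sup_right : D0 ⊓ _ ≤ _) ⟨(mem_normalizer_iff''.1 (hPN hh) e).1 he, mem_centralizer_iff.2 fun a ha => ?_⟩)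
      have h3 := mem_centralizer_iff.1 hec (h * a * h⁻¹) ⟨a, hAW ha, rfl⟩
      have e2 : a * (h⁻¹ * e * h) = h⁻¹ * (h * a * h⁻¹ * e) * h := by group
      have e3 : h⁻¹ * e * h * a = h⁻¹ * (e * (h * a * h⁻¹)) * h := by group
      rw [e2, e3, h3]
    have hrel : (centralizer (A : Set G)).relIndex D0 ≤ (centralizer (V₁ : Set G)).relIndex A := by
      refine le_trans ?_ (relIndex_le_iff.1 hA.off.le)
      have s1 := card_sup_mul hD0c hV1D0 (inf_le_left : D0 ⊓ centralizer (A : Set G) ≤ D0)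
      rw [hsup, ← inf_assoc, inf_eq_left.2 hV1D0] at s1
      have r1 := rel_mul_card D0 (centralizer (A : Set G))
      have r2 := rel_mul_card V₁ (centralizer (A : Set G))
      have p1 : 0 < Nat.card ↥(V₁ ⊓ centralizer (A : Set G)) := Nat.card_pos
      have p2 : 0 < Nat.card ↥(D0 ⊓ centralizer (A : Set G)) := Nat.card_pos
      have h3 : (centralizer (A : Set G)).relIndex D0 *
          (Nat.card ↥(D0 ⊓ centralizer (A : Set G)) * Nat.card ↥(V₁ ⊓ centralizer (A : Set G))) =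
          (centralizer (A : Set G)).relIndex V₁ *
          (Nat.card ↥(D0 ⊓ centralizer (A : Set G)) * Nat.card ↥(V₁ ⊓ centralizer (A : Set G))) := by
        rw [← mul_assoc, r1, s1, ← r2]; ring
      exact (Nat.eq_of_mul_eq_mul_right (Nat.mul_pos p2 p1) h3).le
    have h4 := eq_line c.hc c.par₁ c.cz₁ c.rp₁ hA hV1D0 hD0sq hD0S hPN hQ
      (fun l hl n hn => htriv l (LL_le (fun p hp => (cj_mono p hAW).trans (cj_le_LL hp)) hl) n hn) hrel
    exact hX0D0.trans h4.le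
  · exfalso
    -- `D1 = [D0, O₂(P₁)] ≤ X0`
    have hD1 : ⁅D0, o2 P₁⁆ ≤ V₂ ⊓ centralizer (Wt V₁ P₁ W : Set G) := by
      rw [commutator_le]
      intro n hn g hg
      rw [hD0, c.D0_eq] at hn
      have hcm : V₁ ≤ centralizer ((V₂ ⊓ centralizer (Wt V₁ P₁ W : Set G) : Subgroup G) : Set G) :=
        c.comm.trans (centralizer_le inf_le_left)
      obtain ⟨w, hw, w', hw', rfl⟩ := mem_sup_of_comm hcm hn
      have hgS : g ∈ (S : Subgroup G) := c.o2_le_S hg
      have h1 : g * w = w * g := (mem_centralizer_iff.1 (cent_o2 c.hc c.par₁ hg) w hw).symm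
      have hXn : g ∈ normalizer ((V₂ ⊓ centralizer (Wt V₁ P₁ W : Set G) : Subgroup G) : Set G) := by
        apply mem_normalizer_of_cj_le
        rw [cj_inf, cj_centralizer, cj_eq_of_mem_normalizer (le_normalizer_zl (S : Subgroup G) P₂ (c.par₂.le hgS)),
          cj_eq_of_mem_normalizer (Wt_norm (c.par₁.le hgS))]
      have h2 := (mem_normalizer_iff.1 hXn _).1 (inv_mem hw')
      have h3 := mul_mem hw' h2
      have h4 : w * (w' * (g * w'⁻¹ * g⁻¹)) = w' * (g * w'⁻¹ * g⁻¹) * w :=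
        (mem_centralizer_iff.1 (c.comm hw) _ h3.1).symm
      have e : ⁅w * w', g⁆ = w' * (g * w'⁻¹ * g⁻¹) := by
        rw [commutatorElement_def]
        have h5 : g * w⁻¹ = w⁻¹ * g := by
          rw [eq_inv_mul_iff_mul_eq, ← mul_assoc, ← h1, mul_inv_cancel_right]
        calc w * w' * g * (w * w')⁻¹ * g⁻¹ = w * (w' * g * w'⁻¹) * w⁻¹ * g⁻¹ := by group
          _ = w * (w' * (g * w'⁻¹ * g⁻¹)) * (g * w⁻¹) * g⁻¹ := by group
          _ = w' * (g * w'⁻¹ * g⁻¹) * w * (w⁻¹ * g) * g⁻¹ := by rw [h4, h5]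
          _ = _ := by group
      rw [e]
      exact h3
    have hDn : P₁ ≤ normalizer ((⁅D0, o2 P₁⁆ : Subgroup G) : Set G) := by
      intro p hp
      apply mem_normalizer_of_cj_le
      change (⁅D0, o2 P₁⁆ : Subgroup G).map _ ≤ _
      rw [Subgroup.map_commutator]
      exact commutator_mono (le_of_eq (cj_eq_of_mem_normalizer (hPN hp)))
        (le_of_eq (cj_eq_of_mem_normalizer (le_normalizer_o2 P₁ hp)))
    have hDne : (⁅D0, o2 P₁⁆ : Subgroup G) ≠ ⊥ := fun h0 =>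
      hQ (cent_symm (commutator_eq_bot_iff_le_centralizer.1 h0))
    have hD1V : ⁅D0, o2 P₁⁆ ≤ V₂ := hD1.trans inf_le_left
    obtain ⟨z, hz, hz1, hzD⟩ := exists_zc (hD1V.trans (zl_le_S' c.hc c.par₂))
      (fun d hd => zl_sq' c.hc c.par₂ d (hD1V hd)) (c.par₁.le.trans hDn) hDne
    by_cases hoff : ∃ A : Subgroup G, A ≤ P₂ ∧ OffM V₂ A
    · refine c.abs₁ hoff z hz hz1 h hh (hgood.trans (sup_le_sup_left (cj_mono h c.le) _)) ?_
      exact hD1V ((mem_normalizer_iff.1 (hDn hh) z).1 hzD)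
    · have hWc : W ≤ centralizer (V₂ : Set G) := by
        by_contra hne
        have h1 := c.off 1 (one_mem _) V₂ le_sup_right
        have h2 := c.elem 1 (one_mem _)
        rw [cj_one] at h1 h2
        exact hoff ⟨W, c.le.trans c.par₂.le, ElemM.mono_left h2 le_sup_right, hne, relIndex_le_iff.2 h1⟩
      have hL : LL P₁ W ≤ centralizer ((⁅D0, o2 P₁⁆ : Subgroup G) : Set G) := by
        refine LL_le fun p hp => ?_
        have h1 := cj_cent (g := p) (hWc.trans (centralizer_le hD1V))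
        rwa [cj_eq_of_mem_normalizer (hDn hp)] at h1
      exact hz1 (not_cent_LL c.hc c.par₁ c.cz₁ c.le c.ne hz (cent_symm hL hzD))

/-- **(3)** -/
theorem exists_TT : ∃ h ∈ P₁, ¬ TT V₁ W h ≤ centralizer (V₂ : Set G) := by
  by_contra hcon
  push Not at hcon
  have h1 : Wt V₁ P₁ W ≤ centralizer (V₂ : Set G) := LL_le fun p hp => by
    rw [← TT_eq hp]; exact hcon p hp
  have h2 : V₂ ≤ V₁ := (le_inf le_rfl (cent_symm h1)).trans c.X0_le
  obtain ⟨p, hp, hpS⟩ := exists_conj_sup c.par₂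
  obtain ⟨z, hz, hz1⟩ := c.exists_z
  exact c.abs₂ z hz hz1 p hp hpS (h2 ((mem_normalizer_iff.1 (le_normalizer_zl (S : Subgroup G) P₂ hp) z).1
    (zc_le_zl _ _ hz)))

theorem off_two : ∃ A : Subgroup G, A ≤ P₂ ∧ OffM V₂ A := by
  obtain ⟨h, hh, hne⟩ := c.exists_TT
  exact ⟨_, ((c.TT_le_Wt hh).trans c.Wt_le).trans (c.o2_le_S.trans c.par₂.le), c.off_TT hh hne⟩

/-- `T_x` is generated by minimal offenders. -/
theorem TT_gen {x : G} (hx : x ∈ P₁) : TT V₁ W x ≤
    sSup {B : Subgroup G | B ≤ TT V₁ W x ∧ MinOffM V₂ (S : Subgroup G) B} ⊔ centralizer (V₂ : Set G) := by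
  by_cases h1 : TT V₁ W x ≤ centralizer (V₂ : Set G)
  · exact h1.trans le_sup_right
  · exact (c.rp2 c.off_two).gen _ (((c.TT_le_Wt hx).trans c.Wt_le).trans c.o2_le_S) (c.off_TT hx h1)

/-- `W~` contains minimal offenders with every commutator. -/
theorem exists_min {B : Subgroup G} (hB : MinOffM V₂ (S : Subgroup G) B) :
    ∃ B' : Subgroup G, B' ≤ Wt V₁ P₁ W ∧ MinOffM V₂ (S : Subgroup G) B' ∧ ⁅V₂, B'⁆ = ⁅V₂, B⁆ := by
  obtain ⟨h, hh, hne⟩ := c.exists_TT
  obtain ⟨B0, hB0, hm0⟩ := exists_minOff (((c.TT_le_Wt hh).trans c.Wt_le).trans c.o2_le_S) (c.off_TT hh hne)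
  obtain ⟨s, hs, he⟩ := (c.rp₂ c.off_two).conj B0 B hm0 hB
  have hSV : (S : Subgroup G) ≤ normalizer (V₂ : Set G) := c.par₂.le.trans (le_normalizer_zl _ _)
  refine ⟨cj s B0, ?_, NatR.minOffM_cj hSV hm0 hs, ?_⟩
  · have h1 := cj_mono s (hB0.trans (c.TT_le_Wt hh))
    rwa [cj_eq_of_mem_normalizer (Wt_norm (c.par₁.le hs))] at h1
  · rw [NatR.comm_cj s (hSV hs), he]

/-- **(4)** -/
theorem cent_comm {h : G} (hh : h ∈ P₁) {B : Subgroup G} (hB : MinOffM V₂ (S : Subgroup G) B) :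
    ⁅V₂, B⁆ ≤ centralizer (cj h W : Set G) := by
  have r2 := c.rp2 c.off_two
  have r1 := c.rp₂ c.off_two
  by_cases hcase : ∃ B' : Subgroup G, B' ≤ TT V₁ W h ∧ MinOffM V₂ (S : Subgroup G) B' ∧ ⁅V₂, B'⁆ = ⁅V₂, B⁆
  · obtain ⟨B', hB', -, he⟩ := hcase
    rw [← he, commutator_le]
    exact fun v hv w hw => c.quad h hh v hv w (hB' hw).1
  push Not at hcase
  set U : Subgroup G := sSup {B' : Subgroup G | MinOffM V₂ (S : Subgroup G) B' ∧ ⁅V₂, B'⁆ ≠ ⁅V₂, B⁆} with hU
  set N : Subgroup G := V₂ ⊓ centralizer (U : Set G) with hN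
  have hNV : N ≤ V₂ := inf_le_left
  have hUle : ∀ B' : Subgroup G, MinOffM V₂ (S : Subgroup G) B' → ⁅V₂, B'⁆ ≠ ⁅V₂, B⁆ → B' ≤ centralizer (N : Set G) :=
    fun B' h1 h2 => (le_sSup (s := {B' : Subgroup G | MinOffM V₂ (S : Subgroup G) B' ∧ ⁅V₂, B'⁆ ≠ ⁅V₂, B⁆})
      ⟨h1, h2⟩).trans (cent_symm inf_le_right)
  have hBV : B ≤ normalizer (V₂ : Set G) := (hB.le.trans c.par₂.le).trans (le_normalizer_zl _ _)
  have hRV : ⁅V₂, B⁆ ≤ V₂ := by
    rw [commutator_le]
    intro w hw b hb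
    have hb' := (mem_normalizer_iff.1 (hBV hb) _).1 (inv_mem hw)
    have e : ⁅w, b⁆ = w * (b * w⁻¹ * b⁻¹) := by rw [commutatorElement_def]; group
    rw [e]; exact mul_mem hw hb'
  have hRN : ⁅V₂, B⁆ ≤ N := by
    refine le_inf hRV (cent_symm (sSup_le fun B' hB' => cent_symm ?_))
    have := r1.cent B B' hB hB'.1 1 (one_mem _)
    rwa [cj_one] at this
  -- `[y, b] ∈ R`
  have hcomm : ∀ b ∈ B, ∀ y ∈ V₂, b * y * b⁻¹ * y⁻¹ ∈ ⁅V₂, B⁆ := by
    intro b hb y hy
    have h1 : ⁅b, y⁆ ∈ ⁅V₂, B⁆ := by rw [commutator_comm]; exact commutator_mem_commutator hb hy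
    rwa [commutatorElement_def] at h1
  have hBN : B ≤ normalizer (N : Set G) := by
    intro b hb
    apply mem_normalizer_of_cj_le
    rintro _ ⟨y, hy, rfl⟩
    have e : (MulAut.conj b).toMonoidHom y = (b * y * b⁻¹ * y⁻¹) * y := by
      change b * y * b⁻¹ = _; group
    rw [e]
    exact mul_mem (hRN (hcomm b hb y hy.1)) hy
  have hBC : B ≤ normalizer (centralizer (N : Set G) : Set G) := by
    intro b hb
    apply mem_normalizer_of_cj_le
    rw [cj_centralizer, cj_eq_of_mem_normalizer (hBN hb)]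
  -- `T_x ≤ B C(N)`
  have hTx : ∀ x ∈ P₁, TT V₁ W x ≤ B ⊔ centralizer (N : Set G) := by
    intro x hx
    refine (c.TT_gen hx).trans (sup_le (sSup_le fun B' hB' => ?_) ((centralizer_le hNV).trans le_sup_right))
    by_cases he : ⁅V₂, B'⁆ = ⁅V₂, B⁆
    · intro b' hb'
      obtain ⟨a, ha, hac⟩ := r2.eq B B' hB hB'.2 he.symm b' hb'
      have e : b' = a * (a⁻¹ * b') := by group
      rw [e]
      exact mul_mem ((le_sup_left : B ≤ _) ha) ((le_sup_right : centralizer (N : Set G) ≤ _) (centralizer_le hNV hac))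
    · exact (hUle B' hB'.2 he).trans le_sup_right
  have hWtB : Wt V₁ P₁ W ≤ B ⊔ centralizer (N : Set G) := LL_le fun p hp => by
    rw [← TT_eq hp]; exact hTx p hp
  -- `T_h` centralises `N`
  have hThN : TT V₁ W h ≤ centralizer (N : Set G) := by
    refine (c.TT_gen hh).trans (sup_le (sSup_le fun B' hB' => ?_) (centralizer_le hNV))
    exact hUle B' hB'.2 (hcase B' hB'.1 hB'.2)
  -- `W~` does not centralise `N`
  obtain ⟨B'', hB''W, hB''m, hB''e⟩ := c.exists_min hB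
  have hnn : ∀ b ∈ B, b ∉ centralizer (V₂ : Set G) → ∀ r ∈ ⁅V₂, B⁆, ∃ y ∈ N, b * y * b⁻¹ * y⁻¹ = r := by
    intro b hb hbc r hr
    obtain ⟨y, hy, hyc, hyr⟩ := r2.nn B hB b hb hbc r hr
    have h1 : U ≤ centralizer ({y} : Set G) := by
      refine sSup_le fun B' hB' b' hb' => ?_
      rw [mem_centralizer_singleton_iff]
      exact mem_centralizer_iff.1 (hyc B' hB'.1 hB'.2) b' hb'
    exact ⟨y, ⟨hy, mem_centralizer_iff.2 fun u hu => mem_centralizer_singleton_iff.1 (h1 hu)⟩, hyr⟩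
  have hRne : ∃ r ∈ ⁅V₂, B⁆, r ≠ 1 := by
    by_contra hcon
    push Not at hcon
    apply hB.off.ne
    have h1 : ⁅V₂, B⁆ = ⊥ := (Subgroup.eq_bot_iff_forall _).2 hcon
    exact cent_symm (commutator_eq_bot_iff_le_centralizer.1 h1)
  have hBn : ∀ b ∈ B, b ∈ centralizer (N : Set G) → b ∈ centralizer (V₂ : Set G) := by
    intro b hb hbN
    by_contra hbc
    obtain ⟨r, hr, hr1⟩ := hRne
    obtain ⟨y, hy, hyr⟩ := hnn b hb hbc r hr
    apply hr1
    rw [← hyr, ← mem_centralizer_iff.1 hbN y hy]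
    group
  have hWtN : ¬ Wt V₁ P₁ W ≤ centralizer (N : Set G) := by
    intro h0
    apply hB''m.off.ne
    intro b'' hb''
    obtain ⟨a, ha, hac⟩ := r2.eq B B'' hB hB''m hB''e.symm b'' hb''
    have h1 : a ∈ centralizer (N : Set G) := by
      have h2 := mul_mem (h0 (hB''W hb'')) (inv_mem (centralizer_le hNV hac))
      have e : b'' * (a⁻¹ * b'')⁻¹ = a := by group
      rwa [e] at h2
    have h3 := mul_mem (hBn a ha h1) hac
    rwa [mul_inv_cancel_left] at h3
  -- the action of `w`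
  intro r hr
  rw [mem_centralizer_iff]
  intro w hw
  have hwP : w ∈ P₁ := c.cjW_le hh hw
  have hWS : Wt V₁ P₁ W ≤ (S : Subgroup G) := c.Wt_le.trans c.o2_le_S
  have hconj : ∀ y ∈ N, ∀ o ∈ Wt V₁ P₁ W,
      w * (o * y * o⁻¹ * y⁻¹) * w⁻¹ = (w * o * w⁻¹) * y * (w * o * w⁻¹)⁻¹ * y⁻¹ := by
    intro y hy o ho
    have hyD : y ∈ (V₁ ⊔ V₂) ⊓ centralizer (TT V₁ W h : Set G) :=
      ⟨(le_sup_right : V₂ ≤ _) (hNV hy), cent_symm hThN hy⟩
    rw [(c.step hh).2.2] at hyD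
    have h2 : V₁ ≤ centralizer (((V₁ ⊔ V₂) ⊓ centralizer (cj h W : Set G) : Subgroup G) : Set G) :=
      le_sup_left.trans (c.D_comm.trans (centralizer_le inf_le_left))
    obtain ⟨v, hv, e, he, hve⟩ := mem_sup_of_comm h2 hyD
    have hwe : w * e = e * w := mem_centralizer_iff.1 he.2 w hw
    set v' := w * v * w⁻¹ * v⁻¹ with hv'
    have hv'V : v' ∈ V₁ := mul_mem ((mem_normalizer_iff.1 (le_normalizer_zl (S : Subgroup G) P₁ hwP) v).1 hv) (inv_mem hv)
    have h3 : w * y * w⁻¹ = v' * y := by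
      rw [← hve, hv']
      calc w * (v * e) * w⁻¹ = w * v * w⁻¹ * (w * e) * w⁻¹ := by group
        _ = w * v * w⁻¹ * v⁻¹ * (v * e) := by rw [hwe]; group
    set o' := w * o * w⁻¹ with ho'
    have ho'W : o' ∈ Wt V₁ P₁ W := (mem_normalizer_iff.1 (Wt_norm hwP) o).1 ho
    have h4 : o' * v' = v' * o' := (mem_centralizer_iff.1 (c.Wt_cent ho'W) v' hv'V).symm
    have h5 : o' * y * o'⁻¹ ∈ V₂ :=
      (mem_normalizer_iff.1 (le_normalizer_zl (S : Subgroup G) P₂ (c.par₂.le (hWS ho'W))) y).1 (hNV hy)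
    have h6 : v' * (o' * y * o'⁻¹ * y⁻¹) = (o' * y * o'⁻¹ * y⁻¹) * v' :=
      (mem_centralizer_iff.1 (c.comm hv'V) _ (mul_mem h5 (inv_mem (hNV hy)))).symm
    calc w * (o * y * o⁻¹ * y⁻¹) * w⁻¹ = o' * (w * y * w⁻¹) * o'⁻¹ * (w * y * w⁻¹)⁻¹ := by
          rw [ho']; group
      _ = (o' * v') * y * o'⁻¹ * y⁻¹ * v'⁻¹ := by rw [h3]; group
      _ = v' * (o' * y * o'⁻¹ * y⁻¹) * v'⁻¹ := by rw [h4]; group
      _ = _ := by rw [h6]; group
  -- a fixed point of `w` on `W~ / C(N)`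
  have hWtNN : Wt V₁ P₁ W ≤ normalizer (N : Set G) := fun o ho => by
    obtain ⟨b, hb, d, hd, rfl⟩ := exists_mul_of_sup hBC (hWtB ho)
    refine mul_mem (hBN hb) ?_
    apply mem_normalizer_of_cj_le
    rintro _ ⟨y, hy, rfl⟩
    have e : (MulAut.conj d).toMonoidHom y = y := by
      change d * y * d⁻¹ = y
      rw [← mem_centralizer_iff.1 hd y hy]; group
    rw [e]; exact hy
  set K : Subgroup G := Wt V₁ P₁ W ⊓ centralizer (N : Set G) with hK
  have hwK : w ∈ normalizer (K : Set G) := by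
    apply mem_normalizer_of_cj_le
    rintro _ ⟨o, ho, rfl⟩
    refine ⟨(mem_normalizer_iff.1 (Wt_norm hwP) o).1 ho.1, mem_centralizer_iff.2 fun y hy => ?_⟩
    change y * (w * o * w⁻¹) = (w * o * w⁻¹) * y
    have h1 := hconj y hy o ho.1
    have h2 : o * y * o⁻¹ * y⁻¹ = 1 := by
      rw [← mem_centralizer_iff.1 ho.2 y hy]; group
    rw [h2, mul_one, mul_inv_cancel] at h1
    have h3 : (w * o * w⁻¹) * y = y * (w * o * w⁻¹) := by
      have e : (w * o * w⁻¹) * y = ((w * o * w⁻¹) * y * (w * o * w⁻¹)⁻¹ * y⁻¹) * (y * (w * o * w⁻¹)) := by group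
      rw [e, ← h1, one_mul]
    exact h3.symm
  have hw2 : IsPGroup 2 (zpowers w) := (isPGroup_cj h (S.isPGroup'.to_le c.le)).to_le (zpowers_le.2 hw)
  have hzW : zpowers w ≤ normalizer (Wt V₁ P₁ W : Set G) := zpowers_le.2 (Wt_norm hwP)
  have hX2 : IsPGroup 2 (zpowers w ⊔ Wt V₁ P₁ W : Subgroup G) :=
    IsPGroup.to_sup_of_normal_right' hw2 (S.isPGroup'.to_le hWS) hzW
  obtain ⟨o, ho, hoK, hfix⟩ := exists_fix_mod (K := K) hX2 (le_sup_right : Wt V₁ P₁ W ≤ _)
    (sup_le hzW le_normalizer) (sup_le (zpowers_le.2 hwK) (by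
      intro o ho
      apply mem_normalizer_of_cj_le
      rw [hK, cj_inf, cj_centralizer, cj_eq_of_mem_normalizer (le_normalizer ho),
        cj_eq_of_mem_normalizer (hWtNN ho)])) (fun h0 => hWtN (h0.trans inf_le_right))
  have hoN : o ∉ centralizer (N : Set G) := fun h0 => hoK ⟨ho, h0⟩
  have hwo := hfix w ((le_sup_left : zpowers w ≤ _) (mem_zpowers w))
  -- `r = [o, y]`
  obtain ⟨b, hb, d, hd, hod⟩ := exists_mul_of_sup hBC (hWtB ho)
  have hbc : b ∉ centralizer (V₂ : Set G) := fun h0 => hoN (by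
    rw [hod]; exact mul_mem (centralizer_le hNV h0) hd)
  obtain ⟨y, hy, hyr⟩ := hnn b hb hbc r hr
  have hdy : d * y * d⁻¹ = y := by rw [← mem_centralizer_iff.1 hd y hy]; group
  have hro : o * y * o⁻¹ * y⁻¹ = r := by
    rw [← hyr, hod]
    calc b * d * y * (b * d)⁻¹ * y⁻¹ = b * (d * y * d⁻¹) * b⁻¹ * y⁻¹ := by group
      _ = _ := by rw [hdy]
  have hoy : o * y * o⁻¹ ∈ N := (mem_normalizer_iff.1 (hWtNN ho) y).1 hy
  have h1 := hconj y hy o ho
  set k := w * o * w⁻¹ * o⁻¹ with hk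
  have hky : k * (o * y * o⁻¹) = (o * y * o⁻¹) * k := (mem_centralizer_iff.1 hwo.2 _ hoy).symm
  have h2 : (w * o * w⁻¹) * y * (w * o * w⁻¹)⁻¹ * y⁻¹ = o * y * o⁻¹ * y⁻¹ := by
    have e : w * o * w⁻¹ = k * o := by rw [hk]; group
    rw [e]
    calc k * o * y * (k * o)⁻¹ * y⁻¹ = (k * (o * y * o⁻¹)) * k⁻¹ * y⁻¹ := by group
      _ = _ := by rw [hky]; group
  rw [h2, hro] at h1
  exact mul_inv_eq_iff_eq_mul.1 h1

/-- **THEOREM FFB.** -/
theorem false : False := by
  obtain ⟨h, hh, hgood⟩ := c.exists_good'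
  obtain ⟨z, hz, hz1⟩ := c.exists_z
  obtain ⟨h', hh', hne⟩ := c.exists_TT
  obtain ⟨A, -, hA⟩ := exists_minOff (((c.TT_le_Wt hh').trans c.Wt_le).trans c.o2_le_S) (c.off_TT hh' hne)
  have hSV : (S : Subgroup G) ≤ normalizer (V₂ : Set G) := c.par₂.le.trans (le_normalizer_zl _ _)
  have h1 : z ∈ centralizer (cj h W : Set G) := by
    have h2 : sSup (pts V₂ (S : Subgroup G) A) ≤ centralizer (cj h W : Set G) := by
      refine sSup_le ?_
      rintro _ ⟨s, hs, rfl⟩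
      rw [← NatR.comm_cj s (hSV hs)]
      exact c.cent_comm hh (NatR.minOffM_cj hSV hA hs)
    exact h2 ((c.rp₂ c.off_two).zfull A hA z hz hz1).1
  apply hz1
  have h3 : P₁ ≤ centralizer ({z} : Set G) := by
    refine hgood.trans (sup_le (fun s hs => ?_) fun w hw => ?_)
    · rw [mem_centralizer_singleton_iff]
      exact (mem_zc.1 hz).2.1 s hs
    · rw [mem_centralizer_singleton_iff]
      exact mem_centralizer_iff.1 h1 w hw
  have h4 : z ∈ zc (S : Subgroup G) ⊓ centralizer (P₁ : Set G) :=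
    ⟨hz, mem_centralizer_iff.2 fun p hp => mem_centralizer_singleton_iff.1 (h3 hp)⟩
  rwa [c.cz₁, mem_bot] at h4

end Core

end Cfsg.Agent.Omega.NOThreeL.FFB

end
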