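import Cfsg.Agent.Mrg.Omega.NOThreeL.NF.SymRp
import Cfsg.Agent.Mrg.Omega.NOThreeL.NF.Final
import Cfsg.Agent.Mrg.Omega.NOThreeL.FFB.Rp2

section


/-!
# THEOREM FFB (#19580): the second interface `RP2` for even-subset modules; `RP2` from the FF theorem

* `rp2_of_symKM` : `RP2` for even-subset modules;
* `rp2` : `RP2 S P` for every `P ∈ P*(S)` with an offender on `V_P`, in `DataZ`.
-/

set_option autoImplicit false

namespace Cfsg.Agent.Omega.NOThreeL.FFB

open Subgroup Cfsg Cfsg.Agent.ZN Cfsg.Agent.ZN.ChoiceBase Cfsg.Agent.Omega.MinPar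
open Cfsg.Agent.Omega.FFThm (ElemM OffM NoOverM ConclM SymK SymKM ActsSym relIndex_le_iff)
open Cfsg.Agent.Omega.Half (Amb)
open Cfsg.Agent.Omega.Half.SymA
open Cfsg.Agent.Omega.NOThreeL.NF (MinOffM)
open Cfsg.Agent.Omega.NOThreeL.NF.SymRP
open Cfsg.Agent.Omega.NOThreeL.FourLine (mem_zpowers_iff)
open Cfsg.Agent.Omega.NOThreeL.Basic (DataZ)
open scoped Classical commutatorElement

universe u

variable {G : Type u} [Group G] [Finite G] {S : Sylow 2 G} {P V : Subgroup G} {k m : ℕ}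

omit [Finite G] in
/-- `⟨b⟩` modulo the square -/
theorem zpowers_two {b : G} (hb2 : b ^ 2 ∈ centralizer (V : Set G)) :
    ∀ x ∈ zpowers b, x ∈ centralizer (V : Set G) ∨ x * b ∈ centralizer (V : Set G) := by
  rintro x ⟨n, rfl⟩
  have key : ∀ j : ℤ, b ^ (2 * j) ∈ centralizer (V : Set G) := fun j => by
    rw [zpow_mul]
    exact zpow_mem (by exact_mod_cast hb2) j
  rcases Int.even_or_odd n with ⟨j, hj⟩ | ⟨j, hj⟩
  · left
    have : n = 2 * j := by omega
    simp only [this]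
    exact key j
  · right
    have : b ^ n * b = b ^ (2 * (j + 1)) := by rw [← zpow_add_one, hj]; congr 1; ring
    simp only [this]
    exact key _

/-- A transposition generates an offender. -/
theorem offM_zpowers (N : SymK (S : Subgroup G) P V ⊥ k m) (hA : Amb (S : Subgroup G) P V) (hm : 1 ≤ m)
    {A : Subgroup G} (hE : ElemM V A) (hAS : A ≤ (S : Subgroup G)) {b : G} (hb : b ∈ A) {p q : Pt k m} (hpq : p ≠ q)
    (hπ : Mv N b (Equiv.swap p q)) : OffM V (zpowers b) := by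
  have hAP : A ≤ P := hAS.trans hA.TH
  have hbP : b ∈ P := hAP hb
  have hbn : b ∉ centralizer (V : Set G) := fun h0 => by
    rw [mem_cent_iff hA hbP hm hπ] at h0
    exact hpq (Equiv.swap_eq_one_iff.1 h0)
  have hsub : zpowers b ≤ A := zpowers_le.2 hb
  have hBne : ¬ zpowers b ≤ centralizer (V : Set G) := fun h0 => hbn (h0 (mem_zpowers b))
  refine ⟨⟨fun a ha => hE.sq a (hsub ha), fun a ha c hc => hE.comm a (hsub ha) c (hsub hc)⟩, hBne, ?_⟩
  rw [FFThm.relIndex_le_iff]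
  have h1 : (centralizer ((zpowers b : Subgroup G) : Set G)).relIndex V ≤ 2 := by
    have hiff : ∀ v ∈ V, v ∈ centralizer ((zpowers b : Subgroup G) : Set G) ↔ E N v p = E N v q := by
      intro v hv
      constructor
      · intro h1
        refine eq_of_comm hπ hv ?_
        rw [mem_centralizer_iff.1 h1 b (mem_zpowers b), mul_inv_cancel_right]
      · intro h1
        have h2 := comm_of_eq hA hbP hπ hv h1
        rw [mul_inv_eq_iff_eq_mul] at h2
        rw [← zpowers_le, le_centralizer_iff, zpowers_le, mem_centralizer_iff]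
        rintro _ ⟨j, rfl⟩
        have h3 : Commute b v := h2
        exact (h3.zpow_right j).eq.symm
    refine rel_le_two fun v hv w hw h1 h2 => ?_
    rw [hiff v hv] at h1
    rw [hiff w hw] at h2
    rw [hiff _ (mul_mem hv hw), E_mul N hv hw, E_mul N hv hw]
    revert h1 h2
    generalize E N v p = a
    generalize E N v q = b
    generalize E N w p = c
    generalize E N w q = d
    revert a b c d
    decide
  have h2 : 2 ≤ (centralizer (V : Set G)).relIndex (zpowers b) := by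
    have h2 : (centralizer (V : Set G)).relIndex (zpowers b) ≠ 0 :=
      FiniteIndex.index_ne_zero (H := (centralizer (V : Set G)).subgroupOf (zpowers b))
    have h3 : (centralizer (V : Set G)).relIndex (zpowers b) ≠ 1 := fun h0 => hBne (relIndex_eq_one.1 h0)
    omega
  exact h1.trans h2

/-- A transposition in `T` is generated by minimal offenders. -/
theorem mem_of_swap (N : SymK (S : Subgroup G) P V ⊥ k m) (hA : Amb (S : Subgroup G) P V) (hm : 1 ≤ m)
    {T : Subgroup G} (hE : ElemM V T) (hT : T ≤ (S : Subgroup G)) {b : G} (hb : b ∈ T) {p q : Pt k m} (hpq : p ≠ q)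
    (hπ : Mv N b (Equiv.swap p q)) :
    b ∈ sSup {B : Subgroup G | B ≤ T ∧ MinOffM V (S : Subgroup G) B} ⊔ centralizer (V : Set G) := by
  have hsub : zpowers b ≤ T := zpowers_le.2 hb
  obtain ⟨B, hB, hmin⟩ := exists_minOff (hsub.trans hT) (offM_zpowers N hA hm hE hT hb hpq hπ)
  obtain ⟨c, hc, hcn⟩ := SetLike.not_le_iff_exists.1 hmin.off.ne
  have h1 := (zpowers_two (V := V) (hE.sq b hb) c (hB hc)).resolve_left hcn
  have e : b = c⁻¹ * (c * b) := by group
  rw [e]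
  refine mul_mem ((le_sup_left : _ ≤ _ ⊔ centralizer (V : Set G)) ?_) ((le_sup_right : centralizer (V : Set G) ≤ _) h1)
  exact inv_mem ((le_sSup (a := B) (show B ∈ {B : Subgroup G | B ≤ T ∧ MinOffM V (S : Subgroup G) B} from
    ⟨hB.trans hsub, hmin⟩)) hc)

theorem sym_gen (M : SymKM (S : Subgroup G) P V ⊥ k m) (hA : Amb (S : Subgroup G) P V) (hm : 1 ≤ m)
    {T : Subgroup G} (hT : T ≤ (S : Subgroup G)) (hoff : OffM V T) :
    T ≤ sSup {B : Subgroup G | B ≤ T ∧ MinOffM V (S : Subgroup G) B} ⊔ centralizer (V : Set G) := by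
  obtain ⟨-, h1⟩ := M.offM T hT hoff
  set N := M.toSymK with hN
  set K := sSup {B : Subgroup G | B ≤ T ∧ MinOffM V (S : Subgroup G) B} ⊔ centralizer (V : Set G) with hK
  have hTP : T ≤ P := hT.trans hA.TH
  have main : ∀ n : ℕ, ∀ a ∈ T, ∀ π : Equiv.Perm (Pt k m), Mv N a π →
      (∀ p, π p ≠ p → π (π p) = p ∧ ∃ b ∈ T, Mv N b (Equiv.swap p (π p))) →
      (Finset.univ.filter fun p => π p ≠ p).card = n → a ∈ K := by
    intro n
    induction n using Nat.strong_induction_on with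
    | _ n ih =>
      intro a ha π hπ hmv hn
      by_cases h0 : ∀ p, π p = p
      · have h2 : π = 1 := by ext1 p; exact h0 p
        exact (le_sup_right : _ ≤ K) ((mem_cent_iff hA (hTP ha) hm hπ).2 h2)
      push Not at h0
      obtain ⟨p, hp⟩ := h0
      obtain ⟨hpp, b, hb, hbπ⟩ := hmv p hp
      set q := π p with hq
      have hbK : b ∈ K := mem_of_swap N hA hm hoff.toElemM hT hb (Ne.symm hp) hbπ
      have hba : b * a ∈ T := mul_mem hb ha
      have hbaπ : Mv N (b * a) (Equiv.swap p q * π) := hbπ.mul hA hπ (hTP ha)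
      have e1 : (Equiv.swap p q * π) p = p := by
        rw [Equiv.Perm.mul_apply, ← hq, Equiv.swap_apply_right]
      have e2 : (Equiv.swap p q * π) q = q := by
        rw [Equiv.Perm.mul_apply, hpp, Equiv.swap_apply_left]
      have e0 : ∀ r, r ≠ p → r ≠ q → π r ≠ p ∧ π r ≠ q := by
        intro r hrp hrq
        refine ⟨fun h3 => hrq ?_, fun h3 => hrp ?_⟩
        · apply π.injective
          rw [h3, hpp]
        · apply π.injective
          rw [h3, ← hq]
      have e3 : ∀ r, r ≠ p → r ≠ q → (Equiv.swap p q * π) r = π r := by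
        intro r hrp hrq
        obtain ⟨h3, h4⟩ := e0 r hrp hrq
        rw [Equiv.Perm.mul_apply, Equiv.swap_apply_of_ne_of_ne h3 h4]
      have hne : ∀ r, (Equiv.swap p q * π) r ≠ r → r ≠ p ∧ r ≠ q := by
        intro r hr
        constructor
        · rintro rfl; exact hr e1
        · rintro rfl; exact hr e2
      have hlt : (Finset.univ.filter fun r => (Equiv.swap p q * π) r ≠ r).card < n := by
        rw [← hn]
        apply Finset.card_lt_card
        rw [Finset.ssubset_iff_of_subset]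
        · exact ⟨p, by simpa using hp, fun h0 => (Finset.mem_filter.1 h0).2 e1⟩
        · intro r hr
          rw [Finset.mem_filter] at hr ⊢
          refine ⟨Finset.mem_univ _, ?_⟩
          obtain ⟨h3, h4⟩ := hne r hr.2
          rw [← e3 r h3 h4]
          exact hr.2
      have h5 : b * a ∈ K := by
        refine ih _ hlt (b * a) hba _ hbaπ (fun r hr => ?_) rfl
        obtain ⟨h3, h4⟩ := hne r hr
        obtain ⟨h6, h7⟩ := e0 r h3 h4
        rw [e3 r h3 h4] at hr ⊢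
        rw [e3 _ h6 h7]
        exact hmv r hr
      have e : a = b⁻¹ * (b * a) := by group
      rw [e]
      exact mul_mem (inv_mem hbK) h5
  intro a ha
  obtain ⟨τ, hτ, hb⟩ := h1 a ha
  refine main _ a ha (pm 1 τ) (mv_pm N hτ) ?_ rfl
  rintro ⟨i, x⟩ hix
  have hx : τ i x ≠ x := fun h0 => hix (Prod.ext rfl h0)
  obtain ⟨h2, b, hbT, h3⟩ := hb i x hx
  refine ⟨Prod.ext rfl h2, b, hbT, ?_⟩
  have h4 := mv_pm N h3
  have h5 := pm_swap (k := k) (m := m) (p := (i, x)) (q := (i, τ i x)) rfl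
  change pm 1 (Function.update 1 i (Equiv.swap x (τ i x))) = _ at h5
  rw [h5] at h4
  exact h4

omit [Finite G] in
/-- two minimal offenders with the same commutator move the same points -/
theorem swap_eq {N : SymK (S : Subgroup G) P V ⊥ k m} (hA : Amb (S : Subgroup G) P V) (hm : 1 ≤ m)
    {A B : Subgroup G} {p q p' q' : Pt k m} (h : AD N A p q) (h' : AD N B p' q') (he : ⁅V, A⁆ = ⁅V, B⁆) :
    Equiv.swap p q = Equiv.swap p' q' := by
  obtain ⟨c, hc⟩ := exists_isC (M := N) h.sw.2.1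
  obtain ⟨c', hc'⟩ := exists_isC (M := N) h'.sw.2.1
  rw [h.comm_eq hA hm hc, h'.comm_eq hA hm hc'] at he
  have h1 : c' ∈ zpowers c := by rw [he]; exact mem_zpowers c'
  rcases (mem_zpowers_iff (sq_one hA hc.1)).1 h1 with h2 | h2
  · exact absurd h2 (hc'.ne_one h'.sw.1)
  have h3 : p' = p ∨ p' = q := by
    by_contra hcon
    push Not at hcon
    have h4 := hc.zero hcon.1 hcon.2
    rw [← h2, hc'.left h'.sw.1] at h4
    exact one_ne_zero h4
  have h5 : q' = p ∨ q' = q := by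
    by_contra hcon
    push Not at hcon
    have h4 := hc.zero hcon.1 hcon.2
    rw [← h2, hc'.right h'.sw.1] at h4
    exact one_ne_zero h4
  have h6 := h'.sw.1
  rcases h3 with rfl | rfl <;> rcases h5 with rfl | rfl
  · exact absurd rfl h6
  · rfl
  · rw [Equiv.swap_comm]
  · exact absurd rfl h6

theorem sym_eq (M : SymKM (S : Subgroup G) P V ⊥ k m) (hA : Amb (S : Subgroup G) P V) (hm : 1 ≤ m)
    {A B : Subgroup G} (h : MinOffM V (S : Subgroup G) A) (h' : MinOffM V (S : Subgroup G) B)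
    (he : ⁅V, A⁆ = ⁅V, B⁆) {b : G} (hb : b ∈ B) : ∃ a ∈ A, a⁻¹ * b ∈ centralizer (V : Set G) := by
  obtain ⟨⟨p, q, had⟩, -⟩ := exists_ad M hA hm h
  obtain ⟨⟨p', q', had'⟩, -⟩ := exists_ad M hA hm h'
  have h1 := swap_eq hA hm had had' he
  rcases had'.all b hb with h2 | h2
  · exact ⟨1, one_mem _, by rwa [inv_one, one_mul]⟩
  · obtain ⟨a, ha, haπ⟩ := had.ex
    refine ⟨a, ha, ?_⟩
    have haP := hA.TH (had.le ha)
    have hbP := hA.TH (had'.le hb)
    rw [mem_cent_iff hA (mul_mem (inv_mem haP) hbP) hm ((haπ.inv hA haP).mul hA h2 hbP), h1, inv_mul_cancel]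

theorem sym_nn (M : SymKM (S : Subgroup G) P V ⊥ k m) (hA : Amb (S : Subgroup G) P V) (hm : 1 ≤ m)
    {B : Subgroup G} (h : MinOffM V (S : Subgroup G) B) {b : G} (hb : b ∈ B) (hbc : b ∉ centralizer (V : Set G))
    {r : G} (hr : r ∈ ⁅V, B⁆) :
    ∃ y ∈ V, (∀ B' : Subgroup G, MinOffM V (S : Subgroup G) B' → ⁅V, B'⁆ ≠ ⁅V, B⁆ → y ∈ centralizer (B' : Set G)) ∧
      b * y * b⁻¹ * y⁻¹ = r := by
  obtain ⟨⟨p, q, had⟩, -⟩ := exists_ad M hA hm h
  obtain ⟨c, hc⟩ := exists_isC (M := M.toSymK) had.sw.2.1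
  have hcm := had.comm_eq hA hm hc
  rw [hcm] at hr
  rcases (mem_zpowers_iff (sq_one hA hc.1)).1 hr with rfl | rfl
  · exact ⟨1, one_mem _, fun _ _ _ => one_mem _, by group⟩
  have hπ := (had.all b hb).resolve_left hbc
  have hbP : b ∈ P := hA.TH (had.le hb)
  obtain ⟨y, hy⟩ := exists_isC (M := M.toSymK) (p := p) (q := (p.1, 0)) rfl
  have hp0 : p ≠ (p.1, 0) := fun h0 => had.sw.nz hA hm (congrArg Prod.snd h0)
  have hq0 : q ≠ (p.1, 0) := fun h0 => had.sw.symm.nz hA hm (congrArg Prod.snd h0)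
  refine ⟨y, hy.1, fun B' hB' hne => ?_, ?_⟩
  · obtain ⟨⟨p', q', had'⟩, -⟩ := exists_ad M hA hm hB'
    have hp' : p' ≠ p := by
      rintro rfl
      apply hne
      have h1 := had'.sw.uniq hA S.isPGroup' hm had.sw
      subst h1
      rw [hcm, had'.comm_eq hA hm hc]
    have hq' : q' ≠ p := by
      rintro rfl
      apply hne
      have h1 := had'.sw.symm.uniq hA S.isPGroup' hm had.sw
      subst h1
      rw [hcm, had'.comm_eq hA hm hc.symm]
    have e1 : E M.toSymK y p' = 0 := hy.zero hp' fun h0 => had'.sw.nz hA hm (congrArg Prod.snd h0)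
    have e2 : E M.toSymK y q' = 0 := hy.zero hq' fun h0 => had'.sw.symm.nz hA hm (congrArg Prod.snd h0)
    rw [mem_centralizer_iff]
    intro b' hb'
    rcases had'.all b' hb' with h4 | h4
    · exact (mem_centralizer_iff.1 h4 y hy.1).symm
    · have h5 := comm_of_eq hA (hA.TH (had'.le hb')) h4 hy.1 (by rw [e1, e2])
      rwa [mul_inv_eq_iff_eq_mul] at h5
  · rcases commutator_eq hA had.sw.1 hbP hπ hy.1 hc with h3 | h3
    · exfalso
      rw [commutatorElement_eq_one_iff_mul_comm] at h3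
      have h4 : E M.toSymK y p = E M.toSymK y q := eq_of_comm hπ hy.1 (by rw [← h3, mul_inv_cancel_right])
      rw [hy.left hp0, hy.zero had.sw.1.symm hq0] at h4
      exact one_ne_zero h4
    · have h4 : b * y * b⁻¹ * y⁻¹ = ⁅y, b⁆⁻¹ := by rw [commutatorElement_def]; group
      rw [h4, h3, inv_eq_iff_mul_eq_one]
      exact sq_one hA hc.1

/-- **`RP2` for even-subset modules.** -/
theorem rp2_of_symKM (hG : IsCharacteristicTwoType G) (hP : IsLoc (S : Subgroup G) P)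
    (hD : FrameFF.cv (S : Subgroup G) P = ⊥) (hm : 1 ≤ m)
    (M : SymKM (S : Subgroup G) P (zl (S : Subgroup G) P) (FrameFF.cv (S : Subgroup G) P) k m) :
    RP2 (S : Subgroup G) P := by
  rw [hD] at M
  have hA : Amb (S : Subgroup G) P (zl (S : Subgroup G) P) := Half.amb_of_loc hG S hP
  exact ⟨fun T hT h => sym_gen M hA hm hT h, fun A B h h' he b hb => sym_eq M hA hm h h' he hb,
    fun B h b hb hbc r hr => sym_nn M hA hm h hb hbc hr⟩

/-- **`RP2` from the FF theorem.** -/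
theorem rp2 (h : Frame.Ctx G) (D : DataZ (S : Subgroup G)) (hP : IsParS (S : Subgroup G) P)
    (hoff : ∃ A : Subgroup G, A ≤ P ∧ OffM (zl (S : Subgroup G) P) A) : RP2 (S : Subgroup G) P := by
  have hc := h.char2
  have hcv : FrameFF.cv (S : Subgroup G) P = ⊥ := D.cv_eq hc hP
  obtain ⟨hno, hcon⟩ := StarEnd.stmtM G (S : Subgroup G) P (MinSimple.EmptyTI.syl_of_le hP.le)
    hP.toIsMinPar (hP.isLoc.char2 S hc) hoff
  rcases hcon with ⟨F, _, _, _, k, hk, ⟨M⟩⟩ | ⟨k, m, hk, hm, ⟨M⟩⟩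
  · exact rp2_of_natKM hP.le hcv M
  · exact rp2_of_symKM hc hP.isLoc hcv (by omega) M

/-- `NoOverM` from the FF theorem. -/
theorem noOver (h : Frame.Ctx G) (hP : IsParS (S : Subgroup G) P)
    (hoff : ∃ A : Subgroup G, A ≤ P ∧ OffM (zl (S : Subgroup G) P) A) : NoOverM (zl (S : Subgroup G) P) P :=
  (StarEnd.stmtM G (S : Subgroup G) P (MinSimple.EmptyTI.syl_of_le hP.le)
    hP.toIsMinPar (hP.isLoc.char2 S h.char2) hoff).1

end Cfsg.Agent.Omega.NOThreeL.FFB

end

section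


/-!
# THEOREM FFB (#19580): (0) absorption

* `absorb` : in `DataZ`, for `P, P' ∈ P*(S)`, `V_{P'}` FF, `z ∈ Z#`, `p ∈ P` with `P = ⟨S, S^p⟩`: if `z^p ∈ V_{P'}`
  then `P ≤ ⟨P', C⟩` or `P' ≤ ⟨P, C⟩`, `C = C_G(Z)`.
-/

set_option autoImplicit false

namespace Cfsg.Agent.Omega.NOThreeL.FFB

open Subgroup Cfsg Cfsg.Agent.Omega.MinPar
open Cfsg.Agent.ZN (zc zl o2)
open Cfsg.Agent.ZN.ChoiceBase hiding mem_zc
open Cfsg.Agent.Omega.FFThm (ElemM OffM NoOverM ConclM NatKM ActsSL SymK SymKM ActsSym)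
open Cfsg.Agent.Omega.NatPair (ap ap_mul ap_one ap_inv_ap ap_zero' ap_one' ext2 exists_ap)
open Cfsg.Agent.Omega.NO3b.EZero (cent_symm cj_cent)
open Cfsg.Agent.Omega.NOThreeL.NF.NatR
open Cfsg.Agent.Omega.NOThreeL.Basic (DataZ)
open Cfsg.Agent.MinSimple.VModule (mem_zc zc_le zc_sq zc_comm le_centralizer_zc zc_le_zl zl_le
  le_normalizer_zl normalizer_le_normalizer_zc le_normalizer_o2 o2_isPGroup o2_le)
open Cfsg.Agent.Lib.SL2Mat

universe u

variable {G : Type u} [Group G]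

theorem exists_two_part [Finite G] (g : G) : ∃ j, Odd j ∧ ∃ n, (g ^ j) ^ 2 ^ n = 1 := by
  obtain ⟨k, j, hj, hkj⟩ := Nat.exists_eq_two_pow_mul_odd (orderOf_pos g).ne'
  exact ⟨j, hj, k, by rw [← pow_mul, mul_comm, ← hkj, pow_orderOf_eq_one]⟩

theorem pow_odd_of_sq {x : G} (hx : x * x = 1) {j : ℕ} (hj : Odd j) : x ^ j = x := by
  obtain ⟨i, rfl⟩ := hj
  rw [pow_succ, pow_mul, pow_two, hx, one_pow, one_mul]

theorem conj_two {g t : G} (h : ∃ n, g ^ 2 ^ n = 1) : ∃ n, (t⁻¹ * g * t) ^ 2 ^ n = 1 := by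
  obtain ⟨n, hn⟩ := h
  refine ⟨n, ?_⟩
  have h1 := conj_pow (i := 2 ^ n) (a := t⁻¹) (b := g)
  rw [inv_inv] at h1
  rw [h1, hn]
  group

section nat

variable {F : Type} [Field F] {S P W : Subgroup G} {k : ℕ}

theorem Ac.pow {M : NatKM F S P W ⊥ k} (hPW : P ≤ normalizer (W : Set G)) {g : G}
    {A : Fin k → Matrix.SpecialLinearGroup (Fin 2) F} (hg : g ∈ P) (h : Ac M g A) (n : ℕ) :
    Ac M (g ^ n) (A ^ n) := by
  induction n with
  | zero => rw [pow_zero, pow_zero]; exact ac_one (one_mem _)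
  | succ n ih => rw [pow_succ, pow_succ]; exact Ac.mul hPW hg ih h

theorem nat_absorb [Finite G] [Finite F] [CharP F 2] (hPW : P ≤ normalizer (W : Set G)) (hSP : S ≤ P)
    (M : NatKM F S P W ⊥ k) {v : G} (hv : v ∈ W) {j : Fin k} (h0 : M.e v j = 0) {K : Subgroup G} (hSK : S ≤ K)
    (hKP : K ≤ P) (hK : ∀ g ∈ P, g * v * g⁻¹ = v → (∃ n, g ^ 2 ^ n = 1) → g ∈ K) :
    P ≤ K ⊔ (P ⊓ centralizer (W : Set G)) := by
  classical
  have hK1 : ∀ i, ∀ g ∈ P, (∀ w ∈ W, M.e w i = 0 → g * w * g⁻¹ = w) → (∃ n, g ^ 2 ^ n = 1) → g ∈ K := by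
    intro i g hg hw h2
    obtain ⟨t, ht, h1⟩ := M.trans j i
    have htP := hSP ht
    have h3 : t⁻¹ * g * t ∈ K := by
      refine hK _ (mul_mem (mul_mem (inv_mem htP) hg) htP) ?_ (conj_two h2)
      have h4 := hw _ (cmem hPW htP hv) ((h1 v hv).2 h0)
      have e : t⁻¹ * g * t * v * (t⁻¹ * g * t)⁻¹ = t⁻¹ * (g * (t * v * t⁻¹) * g⁻¹) * t := by group
      rw [e, h4]; group
    have e : g = t * (t⁻¹ * g * t) * t⁻¹ := by group
    rw [e]
    exact mul_mem (mul_mem (hSK ht) h3) (inv_mem (hSK ht))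
  have hK2 : ∀ (i : Fin k) (B : Matrix.SpecialLinearGroup (Fin 2) F), B * B = 1 →
      ∃ g ∈ K, Ac M g (Pi.mulSingle i B) := by
    intro i B hB
    obtain ⟨g, hg, hac⟩ := lift_ac (M := M) (Pi.mulSingle i B)
    obtain ⟨n, hn, h2⟩ := exists_two_part g
    have h3 := Ac.pow hPW hg hac n
    have h4 : (Pi.mulSingle i B : Fin k → Matrix.SpecialLinearGroup (Fin 2) F) * Pi.mulSingle i B = 1 := by
      rw [← Pi.mulSingle_mul, hB, Pi.mulSingle_one]
    rw [pow_odd_of_sq h4 hn] at h3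
    refine ⟨g ^ n, hK1 i _ (pow_mem hg n) (fun w hw hwi => ?_) h2, h3⟩
    refine e_inj (M := M) (cmem hPW (pow_mem hg n) hw) hw ?_
    funext i'
    rw [h3 w hw i']
    by_cases hi : i' = i
    · subst hi
      rw [hwi]
      refine ext2 ?_ ?_
      · rw [ap_zero']; simp
      · rw [ap_one']; simp
    · rw [Pi.mulSingle_eq_of_ne hi, ap_one]
  let Γ : Subgroup (Fin k → Matrix.SpecialLinearGroup (Fin 2) F) :=
    { carrier := {B | ∃ m ∈ K, Ac M m B}
      mul_mem' := by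
        rintro B B' ⟨m, hm, hmB⟩ ⟨m', hm', hmB'⟩
        exact ⟨m * m', mul_mem hm hm', Ac.mul hPW (hKP hm') hmB hmB'⟩
      one_mem' := ⟨1, one_mem _, ac_one (one_mem _)⟩
      inv_mem' := by
        rintro B ⟨m, hm, hmB⟩
        exact ⟨m⁻¹, inv_mem hm, hmB.inv hPW (hKP hm)⟩ }
  have hup : ∀ i c, Pi.mulSingle i (up c) ∈ Γ := fun i c => hK2 i (up c) (by
    rw [up_mul, CharTwo.add_self_eq_zero, up_zero])
  have hlo : ∀ i c, Pi.mulSingle i (lo c) ∈ Γ := fun i c => hK2 i (lo c) (by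
    rw [lo_mul, CharTwo.add_self_eq_zero, lo_zero])
  have hall : ∀ B, B ∈ Γ := by
    intro B
    refine pi_mem_of_mulSingle_mem B fun j => ?_
    obtain ⟨a, b, c, d, h1⟩ := exists_up_lo (B j)
    rw [h1, Pi.mulSingle_mul, Pi.mulSingle_mul, Pi.mulSingle_mul]
    exact mul_mem (mul_mem (mul_mem (hup j a) (hlo j b)) (hup j c)) (hlo j d)
  refine M.gen _ (hSK.trans le_sup_left) fun h hh A hA => ?_
  obtain ⟨m, hm, hmA⟩ := hall A
  have h1 : Ac M h A := hA.1
  have h2 := Ac.mul hPW hh (hmA.inv hPW (hKP hm)) h1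
  rw [inv_mul_cancel] at h2
  have h3 : m⁻¹ * h ∈ P := mul_mem (inv_mem (hKP hm)) hh
  have e : h = m * (m⁻¹ * h) := by group
  rw [e]
  exact mul_mem ((le_sup_left : K ≤ _) hm) ((le_sup_right : P ⊓ centralizer (W : Set G) ≤ _)
    ⟨h3, cent_of_ac (M := M) hPW h3 h2⟩)

end nat

section sym

open Cfsg.Agent.Omega.Half (Amb)
open Cfsg.Agent.Omega.Half.SymA
open Cfsg.Agent.Omega.NOThreeL.NF.SymRP
open scoped Classical

variable [Finite G] {S : Sylow 2 G} {P V : Subgroup G} {k m : ℕ}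

/-- A vector which is not the full one commutes with a transposition `(0 x)`. -/
theorem exists_fix_swap (N : SymK (S : Subgroup G) P V ⊥ k m) (hA : Amb (S : Subgroup G) P V) (hm : 1 ≤ m)
    {v z : G} (hv : v ∈ V) (hz : z ∈ zc (S : Subgroup G)) (hz1 : z ≠ 1) (hne : v ≠ z) :
    ∃ c : Fin k, ∃ x : Fin (2 ^ m + 1), x ≠ 0 ∧ E N v (c, 0) = E N v (c, x) := by
  by_contra hcon
  push Not at hcon
  apply hne
  refine inj N hv (hA.zc hz) fun p => ?_
  rw [E_zc (M := N) hA hm hz hz1]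
  have h1 : ∀ c : Fin k, E N v (c, 0) = 0 := by
    intro c
    have h2 := even N hv c
    rw [Fin.sum_univ_succ] at h2
    have h3 : ∀ x ∈ (Finset.univ : Finset (Fin (2 ^ m))), E N v (c, x.succ) = 1 + E N v (c, 0) := by
      intro x _
      have h4 := hcon c x.succ (Fin.succ_ne_zero x)
      revert h4
      generalize E N v (c, 0) = a
      generalize E N v (c, x.succ) = b
      revert a b
      decide
    rw [Finset.sum_congr rfl h3, Finset.sum_const, Finset.card_univ, Fintype.card_fin, nsmul_eq_mul] at h2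
    have h4 : ((2 ^ m : ℕ) : ZMod 2) = 0 := by
      rw [ZMod.natCast_eq_zero_iff]
      exact dvd_pow_self 2 (by omega)
    rw [h4, zero_mul, add_zero] at h2
    exact h2
  by_cases hp : p.2 = 0
  · rw [if_pos hp]
    have : p = (p.1, 0) := Prod.ext rfl hp
    rw [this]
    exact h1 p.1
  · rw [if_neg hp]
    have h2 := hcon p.1 p.2 hp
    rw [h1] at h2
    exact zmod2_ne.1 (Ne.symm h2)

theorem sym_absorb (N : SymK (S : Subgroup G) P V ⊥ k m) (hA : Amb (S : Subgroup G) P V) (hm : 1 ≤ m)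
    {v z : G} (hv : v ∈ V) (hz : z ∈ zc (S : Subgroup G)) (hz1 : z ≠ 1) (hne : v ≠ z) {K : Subgroup G}
    (hSK : (S : Subgroup G) ≤ K) (hKP : K ≤ P)
    (hK : ∀ g ∈ P, g * v * g⁻¹ = v → (∃ n, g ^ 2 ^ n = 1) → g ∈ K) :
    P ≤ K ⊔ (P ⊓ centralizer (V : Set G)) := by
  obtain ⟨c, x, hx, hvx⟩ := exists_fix_swap N hA hm hv hz hz1 hne
  have hx0 : ((c, x) : Pt k m).2 ≠ 0 := hx
  let Γ : Subgroup (Equiv.Perm (Pt k m)) :=
    { carrier := {π | ∃ g ∈ K, Mv N g π}
      mul_mem' := by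
        rintro π ρ ⟨g, hg, hπ⟩ ⟨g', hg', hρ⟩
        exact ⟨g * g', mul_mem hg hg', hπ.mul hA hρ (hKP hg')⟩
      one_mem' := ⟨1, one_mem _, Mv_one N⟩
      inv_mem' := by
        rintro π ⟨g, hg, hπ⟩
        exact ⟨g⁻¹, inv_mem hg, hπ.inv hA (hKP hg)⟩ }
  -- the transpositions with the zero point
  have hΓ0 : ∀ (i : Fin k) (y : Fin (2 ^ m + 1)), Equiv.swap ((i, 0) : Pt k m) (i, y) ∈ Γ := by
    intro i y
    by_cases hy : y = 0
    · rw [hy, Equiv.swap_self]; exact one_mem Γ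
    obtain ⟨g, hg, hπ⟩ := exists_swap (M := N) (p := (i, 0)) (q := (i, y)) rfl
    obtain ⟨n, hn, h2⟩ := exists_two_part g
    have h3 := hπ.pow hA hg n
    rw [pow_odd_of_sq (Equiv.swap_mul_self _ _) hn] at h3
    have hgP : g ^ n ∈ P := pow_mem hg n
    obtain ⟨t, ht, ρ, hρ, h1⟩ := trans_pts (M := N) S hA hm (p := (c, x)) (q := (i, y)) hx0 hy
    have htP := hA.TH ht
    have h4 : ρ (c, 0) = (i, 0) := by
      have h5 : (ρ (c, 0)).1 = (ρ (c, x)).1 := hρ.fst hA hm htP rfl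
      rw [h1] at h5
      have h6 : (ρ (c, 0)).2 = 0 := (hρ.snd hA hm ht).2 rfl
      exact Prod.ext h5 h6
    have h5 : Mv N (t⁻¹ * g ^ n * t⁻¹⁻¹) (ρ⁻¹ * Equiv.swap (i, 0) (i, y) * ρ⁻¹⁻¹) :=
      (hρ.inv hA htP).conj hA (inv_mem htP) h3 hgP
    have h6 : ρ⁻¹ * Equiv.swap (i, 0) (i, y) * ρ⁻¹⁻¹ = Equiv.swap ((c, 0) : Pt k m) (c, x) := by
      rw [← Equiv.swap_apply_apply, Equiv.Perm.inv_eq_iff_eq.2 h4.symm, Equiv.Perm.inv_eq_iff_eq.2 h1.symm]
    rw [h6, inv_inv] at h5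
    have h7 : t⁻¹ * g ^ n * t ∈ P := mul_mem (mul_mem (inv_mem htP) hgP) htP
    have h8 : t⁻¹ * g ^ n * t ∈ K := hK _ h7 (comm_of_eq hA h7 h5 hv hvx) (conj_two h2)
    refine ⟨g ^ n, ?_, h3⟩
    have e : g ^ n = t * (t⁻¹ * g ^ n * t) * t⁻¹ := by group
    rw [e]
    exact mul_mem (mul_mem (hSK ht) h8) (inv_mem (hSK ht))
  -- all transpositions
  have hΓ1 : ∀ (i : Fin k) (y y' : Fin (2 ^ m + 1)), Equiv.swap ((i, y) : Pt k m) (i, y') ∈ Γ := by
    intro i y y'
    by_cases hyy : y = y'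
    · rw [hyy, Equiv.swap_self]; exact one_mem Γ
    by_cases hy : y = 0
    · rw [hy]; exact hΓ0 i y'
    by_cases hy' : y' = 0
    · rw [hy', Equiv.swap_comm]; exact hΓ0 i y
    have h1 : ((i, y') : Pt k m) ≠ (i, 0) := fun h => hy' (congrArg Prod.snd h)
    have h2 : ((i, y') : Pt k m) ≠ (i, y) := fun h => hyy (congrArg Prod.snd h).symm
    have h3 := Equiv.swap_apply_apply (Equiv.swap ((i, 0) : Pt k m) (i, y)) (i, 0) (i, y')
    rw [Equiv.swap_apply_left, Equiv.swap_apply_of_ne_of_ne h1 h2] at h3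
    rw [h3]
    exact mul_mem (mul_mem (hΓ0 i y) (hΓ0 i y')) (inv_mem (hΓ0 i y))
  let φ : (Fin k → Equiv.Perm (Fin (2 ^ m + 1))) →* Equiv.Perm (Pt k m) :=
    { toFun := fun τ => pm 1 τ
      map_one' := by ext1 ⟨i, y⟩; rfl
      map_mul' := fun τ τ' => by ext1 ⟨i, y⟩; rfl }
  have hall : ∀ τ : Fin k → Equiv.Perm (Fin (2 ^ m + 1)), pm 1 τ ∈ Γ := by
    intro τ
    change τ ∈ Γ.comap φ
    refine pi_mem_of_mulSingle_mem τ fun i => ?_
    induction τ i using Equiv.Perm.swap_induction_on with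
    | one => rw [Pi.mulSingle_one]; exact one_mem _
    | swap_mul f y y' hyy ih =>
      rw [Pi.mulSingle_mul]
      refine mul_mem ?_ ih
      change pm 1 (Pi.mulSingle i (Equiv.swap y y')) ∈ Γ
      have h1 := pm_swap (k := k) (m := m) (p := (i, y)) (q := (i, y')) rfl
      change pm 1 (Function.update 1 i (Equiv.swap y y')) = _ at h1
      change pm 1 (Function.update 1 i (Equiv.swap y y')) ∈ Γ
      rw [h1]
      exact hΓ1 i y y'
  refine N.gen _ (hSK.trans le_sup_left) fun h hh τ hτ _ => ?_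
  obtain ⟨g, hg, hπ⟩ := hall τ
  have h1 : Mv N h (pm 1 τ) := mv_pm N hτ
  have h3 : g⁻¹ * h ∈ P := mul_mem (inv_mem (hKP hg)) hh
  have h2 := (hπ.inv hA (hKP hg)).mul hA h1 hh
  rw [inv_mul_cancel] at h2
  have e : h = g * (g⁻¹ * h) := by group
  rw [e]
  exact mul_mem ((le_sup_left : K ≤ _) hg) ((le_sup_right : P ⊓ centralizer (V : Set G) ≤ _)
    ⟨h3, (mem_cent_iff hA h3 hm h2).2 rfl⟩)

end sym

variable [Finite G] {S : Sylow 2 G} {P P' : Subgroup G}

/-- `P = K C_P(V_P)` implies `P = K`. -/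
theorem le_of_sup (hP : IsParS (S : Subgroup G) P) (hS : (S : Subgroup G) ≠ ⊥)
    (hcz : zc (S : Subgroup G) ⊓ centralizer (P : Set G) = ⊥) {K : Subgroup G}
    (hSK : (S : Subgroup G) ≤ K) (hKP : K ≤ P)
    (h : P ≤ K ⊔ (P ⊓ centralizer (zl (S : Subgroup G) P : Set G))) : P ≤ K := by
  by_contra hcon
  obtain ⟨M, hM, hmax⟩ := hP.exists_max
  have h1 : K ≤ M := hmax K hSK (lt_of_le_not_ge hKP hcon)
  have h2 : (S : Subgroup G) ⊔ (P ⊓ centralizer (zl (S : Subgroup G) P : Set G)) ≤ M := by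
    refine hmax _ le_sup_left (lt_of_le_not_ge (sup_le hP.le inf_le_left) fun h0 => ?_)
    have h3 := MinSimple.Basic.zc_ne_bot S.isPGroup' hS
    obtain ⟨a, ha⟩ := Subgroup.ne_bot_iff_exists_ne_one.1 h3
    apply ha
    have h4 : (a : G) ∈ zc (S : Subgroup G) ⊓ centralizer (P : Set G) := by
      refine ⟨a.2, ?_⟩
      have h5 : P ≤ centralizer ({(a : G)} : Set G) := by
        refine h0.trans (sup_le (fun s hs => ?_) fun c hc => ?_)
        · rw [mem_centralizer_singleton_iff]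
          exact (mem_zc.1 a.2).2.1 s hs
        · rw [mem_centralizer_singleton_iff]
          exact (mem_centralizer_iff.1 hc.2 _ (zc_le_zl _ _ a.2)).symm
      exact mem_centralizer_iff.2 fun x hx => mem_centralizer_singleton_iff.1 (h5 hx)
    rw [hcz, mem_bot] at h4
    exact Subtype.ext h4
  exact not_le_of_gt hM (h.trans (sup_le h1 (le_sup_right.trans h2)))

/-- 2-elements of `N_G(Z)` centralise `Z`. -/
theorem mem_CZ_of_two {g : G} (hg : g ∈ normalizer (zc (S : Subgroup G) : Set G)) (h2 : ∃ n, g ^ 2 ^ n = 1) :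
    g ∈ centralizer (zc (S : Subgroup G) : Set G) := by
  obtain ⟨n, hn⟩ := h2
  have hz : IsPGroup 2 (zpowers g) := by
    rw [IsPGroup.iff_card, Nat.card_zpowers]
    obtain ⟨j, -, hj⟩ := (Nat.dvd_prime_pow Nat.prime_two).1 (orderOf_dvd_of_pow_eq_one hn)
    exact ⟨j, hj⟩
  obtain ⟨x, hx, hxS⟩ := FFThm.exists_conj_le S (N := normalizer (zc (S : Subgroup G) : Set G))
    ((le_centralizer_zc (S : Subgroup G)).trans (centralizer_le_normalizer _)) hz ((zpowers_le).2 hg)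
  have h1 : x * g * x⁻¹ ∈ (S : Subgroup G) := hxS ⟨g, mem_zpowers g, rfl⟩
  have h3 := le_centralizer_zc (S : Subgroup G) h1
  have h4 : x⁻¹ * (x * g * x⁻¹) * x⁻¹⁻¹ ∈ centralizer (zc (S : Subgroup G) : Set G) := by
    have h5 : cj x⁻¹ (centralizer (zc (S : Subgroup G) : Set G)) = centralizer (zc (S : Subgroup G) : Set G) := by
      rw [cj_centralizer, cj_eq_of_mem_normalizer (inv_mem hx)]
    rw [← h5]
    exact ⟨_, h3, rfl⟩
  have e : x⁻¹ * (x * g * x⁻¹) * x⁻¹⁻¹ = g := by group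
  rwa [e] at h4

/-- `C_G(z) ≤ N_G(Z)` -/
theorem cent_le (D : DataZ (S : Subgroup G)) {z : G} (hz : z ∈ zc (S : Subgroup G)) (hz1 : z ≠ 1) :
    centralizer ({z} : Set G) ≤ normalizer (zc (S : Subgroup G) : Set G) :=
  RTools.le_normalizer S hz hz1 (fun P1 hP1 hz' => hz1 (by
    have h4 : z ∈ zc (S : Subgroup G) ⊓ centralizer (P1 : Set G) := ⟨hz, mem_centralizer_iff.2 fun x hx =>
      mem_centralizer_singleton_iff.1 (hz' hx)⟩
    rwa [D.cz P1 hP1, mem_bot] at h4))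

/-- **(0) Absorption.** -/
theorem absorb (h : Frame.Ctx G) (D : DataZ (S : Subgroup G)) (hP : IsParS (S : Subgroup G) P)
    (hP' : IsParS (S : Subgroup G) P')
    (hoff : ∃ A : Subgroup G, A ≤ P' ∧ OffM (zl (S : Subgroup G) P') A) {z : G}
    (hz : z ∈ zc (S : Subgroup G)) (hz1 : z ≠ 1) {p : G} (hp : p ∈ P)
    (hpS : P ≤ (S : Subgroup G) ⊔ cj p (S : Subgroup G)) (hmem : p * z * p⁻¹ ∈ zl (S : Subgroup G) P') :
    P ≤ P' ⊔ centralizer (zc (S : Subgroup G) : Set G) ∨ P' ≤ P ⊔ centralizer (zc (S : Subgroup G) : Set G) := by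
  have hc := h.char2
  have hcz := cent_le D hz hz1
  set C := centralizer (zc (S : Subgroup G) : Set G) with hC
  have hSC : (S : Subgroup G) ≤ C := le_centralizer_zc _
  by_cases hcj : ∃ p' ∈ P', p * z * p⁻¹ = p' * z * p'⁻¹
  · -- (a)
    left
    obtain ⟨p', hp', he⟩ := hcj
    have h1 : p'⁻¹ * p ∈ centralizer ({z} : Set G) := by
      rw [mem_centralizer_singleton_iff]
      calc p'⁻¹ * p * z = p'⁻¹ * (p * z * p⁻¹) * p := by group
        _ = z * (p'⁻¹ * p) := by rw [he]; group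
    have h2 : cj (p'⁻¹ * p) C = C := by
      rw [hC, cj_centralizer, cj_eq_of_mem_normalizer (hcz h1)]
    have h3 : cj p (S : Subgroup G) ≤ cj p' C := by
      have h4 : cj p C = cj p' C := by
        have h5 := congrArg (cj p') h2
        rw [cj_cj, mul_inv_cancel_left] at h5
        exact h5
      rw [← h4]
      exact cj_mono p hSC
    have h6 : cj p' C ≤ P' ⊔ C := by
      have h7 : cj p' (P' ⊔ C) = P' ⊔ C := cj_eq_of_mem_normalizer (le_normalizer ((le_sup_left : P' ≤ _) hp'))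
      rw [← h7]
      exact cj_mono p' le_sup_right
    exact hpS.trans (sup_le (hP'.le.trans le_sup_left) (h3.trans h6))
  · -- (b)
    right
    push Not at hcj
    set v := p * z * p⁻¹ with hvdef
    set K := P' ⊓ (P ⊔ C) with hKdef
    have hSK : (S : Subgroup G) ≤ K := le_inf hP'.le (hP.le.trans le_sup_left)
    have hKP : K ≤ P' := inf_le_left
    have hK : ∀ g ∈ P', g * v * g⁻¹ = v → (∃ n, g ^ 2 ^ n = 1) → g ∈ K := by
      intro g hg hgv h2
      refine ⟨hg, ?_⟩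
      have h1 : p⁻¹ * g * p ∈ centralizer ({z} : Set G) := by
        rw [mem_centralizer_singleton_iff]
        have h3 : g * v = v * g := by
          rwa [mul_inv_eq_iff_eq_mul] at hgv
        calc p⁻¹ * g * p * z = p⁻¹ * (g * v) * p := by rw [hvdef]; group
          _ = z * (p⁻¹ * g * p) := by rw [h3, hvdef]; group
      have h3 : p⁻¹ * g * p ∈ C := mem_CZ_of_two (hcz h1) (conj_two h2)
      have e : g = p * (p⁻¹ * g * p) * p⁻¹ := by group
      rw [e]
      have hpK : p ∈ P ⊔ C := (le_sup_left : P ≤ _) hp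
      exact (P ⊔ C).mul_mem ((P ⊔ C).mul_mem hpK ((le_sup_right : C ≤ _) h3)) ((P ⊔ C).inv_mem hpK)
    have hmain : P' ≤ K ⊔ (P' ⊓ centralizer (zl (S : Subgroup G) P' : Set G)) := by
      have hcv : FrameFF.cv (S : Subgroup G) P' = ⊥ := D.cv_eq hc hP'
      have hPW : P' ≤ normalizer (zl (S : Subgroup G) P' : Set G) := le_normalizer_zl _ _
      obtain ⟨-, hcon⟩ := StarEnd.stmtM G (S : Subgroup G) P' (MinSimple.EmptyTI.syl_of_le hP'.le)
        hP'.toIsMinPar (hP'.isLoc.char2 S hc) hoff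
      rcases hcon with ⟨F, _, _, _, k, hk, ⟨M⟩⟩ | ⟨k, m, hk, hm, ⟨M⟩⟩
      · rw [hcv] at M
        have hzW : z ∈ zl (S : Subgroup G) P' := zc_le_zl _ _ hz
        have hcen : ∀ s ∈ (S : Subgroup G), s * z * s⁻¹ = z := by
          intro s hs
          rw [(mem_zc.1 hz).2.1 s hs]
          group
        have hzf : ∀ j, M.e z j ≠ 0 := by
          intro j h0
          refine hz1 (e_inj (M := M) hzW (one_mem _) ?_)
          rw [e_one]
          funext j'
          obtain ⟨s, hs, h1⟩ := M.trans j j'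
          have h2 := (h1 z hzW).2 h0
          rwa [hcen s hs] at h2
        obtain ⟨j, hj⟩ : ∃ j, M.e v j = 0 := by
          by_contra hcon
          push Not at hcon
          obtain ⟨p', hp', he⟩ := conj_of (M := M) hPW hzW hmem hzf hcon
          exact hcj p' hp' he
        exact nat_absorb hPW hP'.le M hmem hj hSK hKP hK
      · rw [hcv] at M
        have hA : Half.Amb (S : Subgroup G) P' (zl (S : Subgroup G) P') := Half.amb_of_loc hc S hP'.isLoc
        refine sym_absorb M.toSymK hA (by omega) hmem hz hz1 (fun h0 => hcj 1 (one_mem _) ?_) hSK hKP hK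
        rw [h0]; group
    exact (le_of_sup hP' (h.sylow_ne_bot S) (D.cz P' hP') hSK hKP hmain).trans inf_le_right

end Cfsg.Agent.Omega.NOThreeL.FFB

end
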